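import Groth.Agent.ParaFormal.Elkik.Pic
import Groth.Agent.Props.QProj
import Groth.Agent.RankLocus.Basic
import Mathlib.RingTheory.AdicCompletion.AsTensorProduct

/-!
# Locally free modules of rank `n` and henselian pairs
-/

set_option autoImplicit false
set_option maxHeartbeats 800000
set_option backward.isDefEq.respectTransparency.types false

noncomputable section

universe u

open CategoryTheory CategoryTheory.Limits AlgebraicGeometry TopologicalSpace
open scoped TensorProduct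

namespace Groth.Agent.ParaFormal.Elkik

open Groth.Agent.Props.QTilde

/-- The pullback of a free module is free. -/
def pullbackFreeMod {X Y : Scheme.{u}} (g : X ⟶ Y) (n : ℕ) :
    (Scheme.Modules.pullback g).obj (FlatMod.freeMod Y n) ≅ FlatMod.freeMod X n :=
  let F : SheafOfModules.{u} Y.ringCatSheaf ⥤ SheafOfModules.{u} X.ringCatSheaf := Scheme.Modules.pullback g
  have : PreservesColimitsOfSize.{u, u} F :=
    (Scheme.Modules.pullbackPushforwardAdjunction g).leftAdjoint_preservesColimits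
  (Scheme.Modules.pullback g).mapIso (Props.QProj.freeModIso Y n).symm ≪≫
    (SheafOfModules.mapFreeIso F (ULift.{u} (Fin n)) (QCoh.pullbackUnitIso g).symm).symm ≪≫
    Props.QProj.freeModIso X n

theorem isFinLocFreeOfRank_pullback {X Y : Scheme.{u}} (g : X ⟶ Y) {n : ℕ} {L : Y.Modules}
    (h : FlatMod.IsFinLocFreeOfRank n L) :
    FlatMod.IsFinLocFreeOfRank n ((Scheme.Modules.pullback g).obj L) := fun x =>
  let ⟨U, hx, ⟨i⟩⟩ := h (g x)
  ⟨g ⁻¹ᵁ U, hx, ⟨PicCl.restrictPullbackIso g U L ≪≫ (Scheme.Modules.pullback (g ∣_ U)).mapIso i ≪≫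
    pullbackFreeMod (g ∣_ U) n⟩⟩

theorem isFinLocFreeOfRank_freeMod (X : Scheme.{u}) (n : ℕ) :
    FlatMod.IsFinLocFreeOfRank n (FlatMod.freeMod X n) := fun _ =>
  ⟨⊤, trivial, ⟨(Scheme.Modules.restrictFunctorIsoPullback _).app _ ≪≫ pullbackFreeMod _ n⟩⟩

theorem isFinLocFreeOfRank_of_local {Y : Scheme.{u}} {M : Y.Modules} {n : ℕ}
    (h : ∀ y : Y, ∃ (V : Y.Opens), y ∈ V ∧ FlatMod.IsFinLocFreeOfRank n (M.restrict V.ι)) :
    FlatMod.IsFinLocFreeOfRank n M := by
  intro y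
  obtain ⟨V, hy, hV⟩ := h y
  obtain ⟨U, hyU, ⟨i⟩⟩ := hV ⟨y, hy⟩
  refine ⟨V.ι ''ᵁ U, ⟨⟨y, hy⟩, hyU, rfl⟩, ⟨?_⟩⟩
  let k : (V.ι ''ᵁ U : Scheme.{u}) ⟶ (U : Scheme.{u}) := (V.ι.isoImage U).inv
  exact (Scheme.Modules.restrictFunctorIsoPullback _).app M ≪≫
    (Scheme.Modules.pullbackCongr (show (V.ι ''ᵁ U).ι = k ≫ U.ι ≫ V.ι from
      (V.ι.isoImage_inv_ι U).symm.trans rfl)).app M ≪≫
    ((Scheme.Modules.pullbackComp k (U.ι ≫ V.ι)).app M).symm ≪≫
    (Scheme.Modules.pullback k).mapIso (((Scheme.Modules.pullbackComp U.ι V.ι).app M).symm ≪≫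
      (Scheme.Modules.pullback U.ι).mapIso ((Scheme.Modules.restrictFunctorIsoPullback V.ι).app M).symm ≪≫
      ((Scheme.Modules.restrictFunctorIsoPullback U.ι).app _).symm ≪≫ i) ≪≫ pullbackFreeMod k n

/-- The tilde of a free module of rank `n`. -/
theorem nonempty_tilde_iso_freeMod (A : Type u) [CommRing A] (n : ℕ) :
    Nonempty (tilde (R := CommRingCat.of A) (ModuleCat.of A (Fin n → A)) ≅
      FlatMod.freeMod (Spec (CommRingCat.of A)) n) := by
  let e : (Fin n → A) ≃ₗ[A] (ULift.{u} (Fin n) →₀ A) :=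
    (Finsupp.linearEquivFunOnFinite A A (Fin n)).symm.trans (Finsupp.domLCongr Equiv.ulift.symm)
  exact ⟨(tilde.functor (CommRingCat.of A)).mapIso
      (LinearEquiv.toModuleIso (X₁ := Fin n → A) (X₂ := ULift.{u} (Fin n) →₀ A) e) ≪≫
    tildeFinsupp (R := CommRingCat.of A) (ULift.{u} (Fin n)) ≪≫ Props.QProj.freeModIso _ n⟩

/-- `M` free of rank `n` on `D(a)` gives a locally free sheaf there. -/
theorem isFinLocFree_restrict_tilde {R : Type u} [CommRing R] (M : Type u) [AddCommGroup M] [Module R M] (a : R)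
    {n : ℕ} (e : Localization.Away a ⊗[R] M ≃ₗ[Localization.Away a] (Fin n → Localization.Away a)) :
    FlatMod.IsFinLocFreeOfRank n
      ((tilde (R := CommRingCat.of R) (ModuleCat.of R M)).restrict (Dop a).ι) := by
  obtain ⟨φ⟩ := nonempty_pullback_algebraMap' M _ e
  obtain ⟨ψ⟩ := nonempty_tilde_iso_freeMod (Localization.Away a) n
  let D : (Spec (CommRingCat.of R)).Opens := Dop a
  have hr : Set.range D.ι ⊆ Set.range (awayMap a) := by
    rw [range_awayMap, Scheme.Opens.range_ι]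
    exact subset_rfl
  refine RankLocus.isFinLocFreeOfRank_of_iso
    ((Scheme.Modules.restrictFunctorIsoPullback D.ι).app _ ≪≫
      (Scheme.Modules.pullbackCongr (IsOpenImmersion.lift_fac (awayMap a) D.ι hr).symm).app _ ≪≫
      ((Scheme.Modules.pullbackComp (IsOpenImmersion.lift (awayMap a) D.ι hr) (awayMap a)).app _).symm).symm ?_
  exact isFinLocFreeOfRank_pullback _
    (RankLocus.isFinLocFreeOfRank_of_iso (φ ≪≫ ψ).symm (isFinLocFreeOfRank_freeMod _ n))

/-- An extension of a vector bundle is a module free of rank `n` along the open. -/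
theorem exists_away_of_isFinLocFree_restrict {R : Type u} [CommRing R] (M : Type u) [AddCommGroup M] [Module R M]
    {n : ℕ} {U : (Spec (CommRingCat.of R)).Opens}
    (h : FlatMod.IsFinLocFreeOfRank n ((tilde (R := CommRingCat.of R) (ModuleCat.of R M)).restrict U.ι))
    (P : PrimeSpectrum R) (hP : P ∈ U) :
    ∃ a ∉ P.asIdeal, Nonempty (Localization.Away a ⊗[R] M ≃ₗ[Localization.Away a] (Fin n → Localization.Away a)) := by
  let F : (Spec (CommRingCat.of R)).Modules := tilde (R := CommRingCat.of R) (ModuleCat.of R M)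
  obtain ⟨W, hW, ⟨i⟩⟩ := h ⟨P, hP⟩
  obtain ⟨_, ⟨a, rfl⟩, hPa, haW⟩ := (Opens.isBasis_iff_nbhd.1 PrimeSpectrum.isBasis_basic_opens)
    (show P ∈ (U.ι ''ᵁ W : TopologicalSpace.Opens (PrimeSpectrum R)) from ⟨⟨P, hP⟩, hW, rfl⟩)
  refine ⟨a, hPa, ?_⟩
  have hr : Set.range (awayMap a) ⊆ Set.range (W.ι ≫ U.ι) := by
    rw [range_awayMap, Scheme.Hom.comp_base, TopCat.coe_comp, Set.range_comp, Scheme.Opens.range_ι]
    exact haW
  let k := IsOpenImmersion.lift (W.ι ≫ U.ι) (awayMap a) hr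
  let Ra := Localization.Away a
  obtain ⟨φ⟩ := nonempty_pullback_algebraMap' M (Ra ⊗[R] M) (LinearEquiv.refl Ra (Ra ⊗[R] M))
  obtain ⟨τ⟩ := nonempty_tilde_iso_freeMod Ra n
  let ψ : (Scheme.Modules.pullback (awayMap a)).obj F ≅ FlatMod.freeMod _ n :=
    (Scheme.Modules.pullbackCongr (IsOpenImmersion.lift_fac (W.ι ≫ U.ι) (awayMap a) hr).symm).app F ≪≫
      ((Scheme.Modules.pullbackComp k (W.ι ≫ U.ι)).app F).symm ≪≫
      (Scheme.Modules.pullback k).mapIso
        (((Scheme.Modules.pullbackComp W.ι U.ι).app F).symm ≪≫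
          (Scheme.Modules.pullback W.ι).mapIso ((Scheme.Modules.restrictFunctorIsoPullback U.ι).app F).symm ≪≫
          ((Scheme.Modules.restrictFunctorIsoPullback W.ι).app _).symm ≪≫ i) ≪≫
      pullbackFreeMod k n
  let e : (tilde.functor (CommRingCat.of Ra)).obj (ModuleCat.of Ra (Ra ⊗[R] M)) ≅
      (tilde.functor (CommRingCat.of Ra)).obj (ModuleCat.of Ra (Fin n → Ra)) := φ.symm ≪≫ ψ ≪≫ τ.symm
  exact ⟨(tilde.fullyFaithfulFunctor.preimageIso e).toLinearEquiv⟩

theorem isFiniteType_of_rank {X : Scheme.{u}} {M : X.Modules} [M.IsQuasicoherent] {n : ℕ}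
    (h : FlatMod.IsFinLocFreeOfRank n M) : SheafOfModules.IsFiniteType.{u} M := by
  refine QCoh.isFiniteType_of_forall_exists M fun x => ?_
  obtain ⟨V, hxV, ⟨e⟩⟩ := h x
  obtain ⟨_, ⟨W, hW, rfl⟩, hxW, hWV⟩ := X.isBasis_affineOpens.exists_subset_of_mem_open hxV V.2
  obtain ⟨b⟩ := Props.QProj.free_sections_of_restrict_iso M e hW hWV
  exact ⟨W, hW, hxW, Module.Finite.of_basis b⟩

/-- A vector bundle on an open of a Noetherian affine scheme comes from a finite module. -/
theorem exists_moduleCat_of_isFinLocFree {R : CommRingCat.{u}} [IsNoetherianRing R]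
    (P : (Spec R).Opens) (L₀ : (P : Scheme.{u}).Modules) {n : ℕ}
    (hL₀ : FlatMod.IsFinLocFreeOfRank n L₀) :
    ∃ N : ModuleCat.{u} R, Module.Finite R N ∧ Nonempty ((tilde N).restrict P.ι ≅ L₀) := by
  choose U hU e using hL₀
  haveI : ∀ x, (L₀.restrict (U x).ι).IsQuasicoherent := fun x =>
    haveI := VBLib.isQuasicoherent_freeMod (U x : Scheme.{u}) n
    QCoh.isQuasicoherent_of_iso (e x).some.symm
  haveI : L₀.IsQuasicoherent := QCoh.isQuasicoherent_of_isOpenCover L₀ U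
    (top_le_iff.1 fun x _ => Opens.mem_iSup.2 ⟨x, hU x⟩)
  have hqc : IsCompact (P : Set (Spec R)) := NoetherianSpace.isCompact _
  obtain ⟨G, hG, hGft, ⟨ε⟩⟩ := Props.SubExt.exists_finiteType_extension (U := P) hqc L₀
    (isFiniteType_of_rank (fun x => ⟨U x, hU x, e x⟩))
  haveI : G.IsQuasicoherent := hG
  haveI : SheafOfModules.IsFiniteType.{u} G := hGft
  have i1 : IsIso G.fromTildeΓ := Scheme.Modules.isIso_fromTildeΓ_of_isQuasicoherent G
  refine ⟨moduleSpecΓFunctor.obj G, ?_,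
    ⟨(Scheme.Modules.restrictFunctor P.ι).mapIso (@asIso _ _ _ _ G.fromTildeΓ i1) ≪≫ ε⟩⟩
  have := QCoh.finite_sections_of_isFiniteType G (isAffineOpen_top (Spec R))
  show Module.Finite R Γ(G, ⊤)
  exact finite_of_ringEquiv (topRingEquiv R) (topRingEquiv_smul G)

/-- A vector bundle on an open of a Noetherian affine scheme comes from a finite module. -/
theorem exists_module_of_isFinLocFree {A : Type u} [CommRing A] [IsNoetherianRing A]
    (P : (Spec (CommRingCat.of A)).Opens) (L₀ : (P : Scheme.{u}).Modules) {n : ℕ}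
    (hL₀ : FlatMod.IsFinLocFreeOfRank n L₀) :
    ∃ (N : Type u) (_ : AddCommGroup N) (_ : Module A N), Module.Finite A N ∧
      Nonempty ((tilde (R := CommRingCat.of A) (ModuleCat.of A N)).restrict P.ι ≅ L₀) := by
  haveI : IsNoetherianRing (CommRingCat.of A) := ‹IsNoetherianRing A›
  obtain ⟨⟨N⟩, hN, e⟩ := exists_moduleCat_of_isFinLocFree P L₀ hL₀
  exact ⟨N, _, _, hN, e⟩

end Groth.Agent.ParaFormal.Elkik
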