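import Groth.Agent.Elkik88.Principal
import Groth.Agent.Hensel.Pair
import Mathlib

/-!
# Points of algebras smooth off `V(I)` lift from `B/I^L` for a henselian pair flat over a Noetherian ring
-/

set_option autoImplicit false
set_option maxHeartbeats 1000000

universe u

namespace Groth.Agent.ParaFormal.Elkik

open TensorProduct

/-- `C` lifts along square-zero thickenings of `B`-algebras in which `t` is a unit. -/
def LiftsAway (B C : Type u) [CommRing B] [CommRing C] [Algebra B C] (t : B) : Prop :=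
  ∀ (R : Type u) [CommRing R] [Algebra B R] (N : Ideal R), N ^ 2 = ⊥ → IsUnit (algebraMap B R t) →
    ∀ g : C →ₐ[B] R ⧸ N, ∃ g' : C →ₐ[B] R, (Ideal.Quotient.mkₐ B N).comp g' = g

/-- The bounded torsion hypothesis: every extended ideal is `x`-saturated after a bounded power. -/
def BoundedTorsion (B₀ B : Type u) [CommRing B₀] [CommRing B] [Algebra B₀ B] : Prop :=
  ∀ (K₀ : Ideal B₀) (x : B₀), ∃ N : ℕ, ∀ b : B,
    (∃ m : ℕ, algebraMap B₀ B x ^ m * b ∈ K₀.map (algebraMap B₀ B)) →
      algebraMap B₀ B x ^ N * b ∈ K₀.map (algebraMap B₀ B)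

theorem boundedTorsion_of_flat (B₀ B : Type u) [CommRing B₀] [CommRing B] [IsNoetherianRing B₀]
    [Algebra B₀ B] [Module.Flat B₀ B] : BoundedTorsion B₀ B := by
  classical
  intro K₀ x
  let F : ℕ →o Ideal B₀ :=
    ⟨fun m => Submodule.comap (LinearMap.mulLeft B₀ (x ^ m)) K₀, fun a b hab r hr => by
      obtain ⟨c, rfl⟩ := Nat.exists_eq_add_of_le hab
      simp only [Submodule.mem_comap, LinearMap.mulLeft_apply] at hr ⊢
      rw [pow_add, mul_comm (x ^ a), mul_assoc]
      exact K₀.mul_mem_left _ hr⟩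
  obtain ⟨N, hN⟩ := monotone_stabilizes_iff_noetherian.mpr inferInstance F
  have hsat : ∀ (m : ℕ) (r : B₀), x ^ m * r ∈ K₀ → x ^ N * r ∈ K₀ := fun m r hr => by
    have h1 : r ∈ F (max m N) := F.monotone (le_max_left m N) hr
    rw [← hN _ (le_max_right m N)] at h1
    exact h1
  refine ⟨N, fun b ⟨m, hm⟩ => ?_⟩
  rw [Ideal.map, Submodule.mem_span_image_iff_exists_fun] at hm
  obtain ⟨s, hsK, w, hw⟩ := hm
  let f : Option {i // i ∈ s} → B₀ := fun o => o.elim (x ^ m) fun i => -(i.1)
  let y : Option {i // i ∈ s} → B := fun o => o.elim b fun i => w i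
  have hrel : ∑ o, f o • y o = 0 := by
    rw [Fintype.sum_option]
    simp only [f, y, Option.elim, Algebra.smul_def, map_pow, map_neg, neg_mul, Finset.sum_neg_distrib]
    rw [← hw]
    simp [mul_comm]
  obtain ⟨k, a, z, hz, ha⟩ := Module.Flat.isTrivialRelation_of_sum_smul_eq_zero (R := B₀) (M := B) (f := f) (x := y) hrel
  have hak : ∀ j, x ^ N * a none j ∈ K₀ := fun j => by
    refine hsat m _ ?_
    have := ha j
    rw [Fintype.sum_option] at this
    rw [show x ^ m * a none j = -∑ i : {i // i ∈ s}, f (some i) * a (some i) j by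
      simpa [f] using eq_neg_of_add_eq_zero_left this]
    exact K₀.neg_mem (K₀.sum_mem fun i _ => K₀.mul_mem_right _ (K₀.neg_mem (hsK i.2)))
  have hb : b = ∑ j, a none j • z j := hz none
  rw [hb, Finset.mul_sum]
  refine Submodule.sum_mem _ fun j _ => ?_
  rw [Algebra.smul_def, ← mul_assoc, ← map_pow, ← map_mul]
  exact Ideal.mul_mem_right _ _ (Ideal.mem_map_of_mem _ (hak j))

/-- The smoothness needed by the principal step. -/
theorem smooth_away {B : Type u} [CommRing B] (A : Type u) [CommRing A] [Algebra B A] (t : B)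
    (C : Type u) [CommRing C] [Algebra B C] [Algebra.FinitePresentation B C]
    (hlift : LiftsAway B C t) :
    Algebra.Smooth (Localization.Away (algebraMap B A t))
      (Localization (Algebra.algebraMapSubmonoid (A ⊗[B] C) (Submonoid.powers (algebraMap B A t)))) := by
  let x := algebraMap B A t
  let A' := Localization.Away x
  let D := A ⊗[B] C
  let D' := Localization (Algebra.algebraMapSubmonoid D (Submonoid.powers x))
  refine ⟨Algebra.FormallySmooth.of_comp_surjective ?_, ?_⟩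
  · intro R _ _ N hN g
    algebraize [(algebraMap A' R).comp (algebraMap A A'), ((algebraMap A' R).comp (algebraMap A A')).comp (algebraMap B A)]
    haveI : IsScalarTower A A' R := IsScalarTower.of_algebraMap_eq' rfl
    haveI : IsScalarTower B A R := IsScalarTower.of_algebraMap_eq' rfl
    haveI : IsScalarTower A A' (R ⧸ N) := IsScalarTower.of_algebraMap_eq' rfl
    haveI : IsScalarTower B A (R ⧸ N) := IsScalarTower.of_algebraMap_eq' rfl
    have hu : IsUnit (algebraMap B R t) := by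
      rw [IsScalarTower.algebraMap_apply B A R, IsScalarTower.algebraMap_apply A A' R]
      exact (IsLocalization.Away.algebraMap_isUnit x).map _
    let g0 : D →ₐ[A] R ⧸ N := (g.restrictScalars A).comp (IsScalarTower.toAlgHom A D D')
    let gC : C →ₐ[B] R ⧸ N := (g0.restrictScalars B).comp Algebra.TensorProduct.includeRight
    obtain ⟨h, hh⟩ := hlift R N hN hu gC
    let hD : D →ₐ[A] R :=
      Algebra.TensorProduct.lift (Algebra.ofId A R) h (fun _ _ => Commute.all _ _)
    have hDu : ∀ y : Algebra.algebraMapSubmonoid D (Submonoid.powers x), IsUnit (hD y) := by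
      rintro ⟨_, _, ⟨k, rfl⟩, rfl⟩
      show IsUnit (hD (algebraMap A D (x ^ k)))
      rw [AlgHom.commutes, map_pow, show algebraMap A R x = algebraMap B R t from
        (IsScalarTower.algebraMap_apply B A R t).symm]
      exact hu.pow k
    let hD' : D' →ₐ[A] R := IsLocalization.liftAlgHom hDu
    refine ⟨hD'.extendScalarsOfIsLocalization A' (Submonoid.powers x), ?_⟩
    apply AlgHom.restrictScalars_injective A
    apply IsLocalization.algHom_ext (Algebra.algebraMapSubmonoid D (Submonoid.powers x))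
    have hDC : (Ideal.Quotient.mkₐ A N).comp hD = g0 := by
      apply Algebra.TensorProduct.ext
      · ext
      · apply AlgHom.ext; intro c
        show Ideal.Quotient.mk N (Algebra.TensorProduct.lift (Algebra.ofId A R) h (fun _ _ => Commute.all _ _) ((1 : A) ⊗ₜ[B] c)) = _
        rw [Algebra.TensorProduct.lift_tmul, map_one, one_mul]
        exact AlgHom.congr_fun hh c
    refine AlgHom.ext fun d => ?_
    have := AlgHom.congr_fun hDC d
    show Ideal.Quotient.mk N (hD' (algebraMap D D' d)) = g (algebraMap D D' d)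
    rw [show hD' (algebraMap D D' d) = hD d from IsLocalization.lift_eq hDu d]
    exact this
  · have : Algebra.IsPushout A A' D D' :=
      (Algebra.isPushout_of_isLocalization (Submonoid.powers x) A' D D').symm
    exact Algebra.FinitePresentation.equiv (Algebra.IsPushout.equiv A A' D D')

/-- The principal step over a `B`-algebra `A`. -/
theorem principal_step {B : Type u} [CommRing B] (A : Type u) [CommRing A] [Algebra B A] (t : B)
    [HenselianRing A (Ideal.span {algebraMap B A t})] {N : ℕ}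
    (hbd : ∀ a : A, (∃ m : ℕ, algebraMap B A t ^ m * a = 0) → algebraMap B A t ^ N * a = 0)
    (C : Type u) [CommRing C] [Algebra B C] [Algebra.FinitePresentation B C]
    (hlift : LiftsAway B C t) (n : ℕ) :
    ∃ L, n ≤ L ∧ ∀ σ : C →ₐ[B] A ⧸ Ideal.span {algebraMap B A t} ^ L, ∃ τ : C →ₐ[B] A,
      ∀ c r, Ideal.Quotient.mk _ r = σ c → τ c - r ∈ Ideal.span {algebraMap B A t} ^ n := by
  obtain ⟨L, hL, h⟩ := Elkik88.exists_algHom_of_approx (algebraMap B A t) hbd (A ⊗[B] C)
    (smooth_away A t C hlift) n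
  refine ⟨L, hL, fun σ => ?_⟩
  obtain ⟨τ, hτ⟩ := h (Algebra.TensorProduct.lift (Algebra.ofId A _) σ (fun _ _ => Commute.all _ _))
  refine ⟨(τ.restrictScalars B).comp Algebra.TensorProduct.includeRight, fun c r hr => ?_⟩
  exact hτ _ r (by simpa using hr)

/-- Approximation along the ideal generated by a list of elements coming from `B₀`. -/
theorem exists_approx_list {B₀ B : Type u} [CommRing B₀] [CommRing B] [Algebra B₀ B]
    (hbd : BoundedTorsion B₀ B) (C : Type u) [CommRing C] [Algebra B C]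
    [Algebra.FinitePresentation B C] :
    ∀ (l : List B₀), HenselianRing B (Ideal.map (algebraMap B₀ B) (Ideal.ofList l)) →
      (∀ x ∈ l, LiftsAway B C (algebraMap B₀ B x)) →
      ∀ (K₀ : Ideal B₀) (n : ℕ), ∃ L, n ≤ L ∧
        ∀ σ : C →ₐ[B] B ⧸ (K₀.map (algebraMap B₀ B) ⊔ (Ideal.ofList l).map (algebraMap B₀ B) ^ L),
          ∃ τ : C →ₐ[B] B ⧸ K₀.map (algebraMap B₀ B),
            ∀ c b, Ideal.Quotient.mk _ b = σ c → ∃ b', Ideal.Quotient.mk _ b' = τ c ∧
              b' - b ∈ K₀.map (algebraMap B₀ B) ⊔ (Ideal.ofList l).map (algebraMap B₀ B) ^ n := by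
  intro l
  induction l with
  | nil =>
    intro _ _ K₀ n
    refine ⟨n + 1, Nat.le_succ n, fun σ => ?_⟩
    have h0 : K₀.map (algebraMap B₀ B) ⊔ (Ideal.ofList ([] : List B₀)).map (algebraMap B₀ B) ^ (n + 1) ≤
        K₀.map (algebraMap B₀ B) := by
      simp [Ideal.ofList, pow_succ]
    refine ⟨(Ideal.Quotient.factorₐ B h0).comp σ, fun c b hb => ⟨b, ?_, by simp⟩⟩
    rw [AlgHom.comp_apply, ← hb]
    rfl
  | cons x l ih =>
    intro hhens hlift K₀ n
    let φ := algebraMap B₀ B
    let K := K₀.map φ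
    let I := (Ideal.ofList (x :: l)).map φ
    let I' := (Ideal.ofList l).map φ
    haveI := hhens
    have hI : I = Ideal.span {φ x} ⊔ I' := by
      simp only [I, I']
      rw [Ideal.ofList_cons, Ideal.map_sup, Ideal.map_span, Set.image_singleton]
    haveI hh1 : HenselianRing B (Ideal.span {φ x}) :=
      Hensel.henselianRing_of_le (J := I) (hI ▸ le_sup_left)
    have hh2 : HenselianRing B I' := Hensel.henselianRing_of_le (J := I) (hI ▸ le_sup_right)
    let A := B ⧸ K
    have hmap : (Ideal.span {φ x}).map (Ideal.Quotient.mk K) = Ideal.span {algebraMap B A (φ x)} := by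
      rw [Ideal.map_span, Set.image_singleton]; rfl
    haveI : HenselianRing A (Ideal.span {algebraMap B A (φ x)}) := by
      rw [← hmap]; exact Hensel.henselianRing_quotient K
    obtain ⟨N, hN⟩ := hbd K₀ x
    have hNA : ∀ a : A, (∃ m : ℕ, algebraMap B A (φ x) ^ m * a = 0) →
        algebraMap B A (φ x) ^ N * a = 0 := by
      rintro a ⟨m, hm⟩
      obtain ⟨b, rfl⟩ := Ideal.Quotient.mk_surjective a
      rw [Ideal.Quotient.algebraMap_eq, ← map_pow, ← map_mul, Ideal.Quotient.eq_zero_iff_mem] at hm ⊢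
      exact hN b ⟨m, hm⟩
    obtain ⟨L₁, hnL₁, h₁⟩ := principal_step A (φ x) hNA C (hlift x (List.mem_cons_self ..)) n
    let K₀' := K₀ ⊔ Ideal.span {x ^ L₁}
    obtain ⟨L₂, hnL₂, h₂⟩ := ih hh2 (fun y hy => hlift y (List.mem_cons_of_mem _ hy)) K₀' n
    have hK' : K₀'.map φ = K ⊔ Ideal.span {φ x} ^ L₁ := by
      simp [K₀', K, Ideal.map_sup, Ideal.map_span, Ideal.span_singleton_pow]
    have hxI : ∀ k, Ideal.span {φ x} ^ k ≤ I ^ k := fun k => Ideal.pow_right_mono (hI ▸ le_sup_left) k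
    have hI'I : ∀ k, I' ^ k ≤ I ^ k := fun k => Ideal.pow_right_mono (hI ▸ le_sup_right) k
    have hstep : K ⊔ I ^ (L₁ + L₂) ≤ K₀'.map φ ⊔ I' ^ L₂ := by
      rw [hK', sup_assoc]
      refine sup_le_sup_left ?_ K
      rw [hI]
      exact Ideal.sup_pow_add_le_pow_sup_pow
    refine ⟨L₁ + L₂, by omega, fun σ => ?_⟩
    obtain ⟨τ₁, hτ₁⟩ := h₂ ((Ideal.Quotient.factorₐ B hstep).comp σ)
    have hker : ∀ b ∈ K₀'.map φ,
        ((Ideal.Quotient.mk (Ideal.span {algebraMap B A (φ x)} ^ L₁)).comp (algebraMap B A)) b = 0 := by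
      intro b hb
      rw [RingHom.comp_apply, Ideal.Quotient.eq_zero_iff_mem, ← hmap, ← Ideal.map_pow]
      rw [hK'] at hb
      exact (Ideal.mem_quotient_iff_mem_sup).mpr (by rwa [sup_comm])
    let ψ : B ⧸ K₀'.map φ →ₐ[B] A ⧸ Ideal.span {algebraMap B A (φ x)} ^ L₁ :=
      Ideal.Quotient.liftₐ _ (Algebra.ofId B _) hker
    obtain ⟨τ, hτ⟩ := h₁ (ψ.comp τ₁)
    refine ⟨τ, fun c b hb => ?_⟩
    obtain ⟨b₁, hb₁, hb₁b⟩ := hτ₁ c b (by rw [AlgHom.comp_apply, ← hb]; rfl)
    obtain ⟨b', hb'⟩ := Ideal.Quotient.mk_surjective (τ c)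
    refine ⟨b', hb', ?_⟩
    have h3 := hτ c (Ideal.Quotient.mk K b₁) (by rw [AlgHom.comp_apply, ← hb₁]; rfl)
    rw [← hb', ← map_sub, ← hmap, ← Ideal.map_pow, Ideal.mem_quotient_iff_mem_sup] at h3
    have h4 : K₀'.map φ ⊔ I' ^ n ≤ K ⊔ I ^ n := by
      rw [hK', sup_assoc]
      exact sup_le_sup_left (sup_le ((hxI L₁).trans (Ideal.pow_le_pow_right hnL₁)) (hI'I n)) K
    have h5 : Ideal.span {φ x} ^ n ⊔ K ≤ K ⊔ I ^ n := sup_le ((hxI n).trans le_sup_right) le_sup_left
    rw [← sub_add_sub_cancel b' b₁ b]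
    exact add_mem (h5 h3) (h4 hb₁b)

/-- Approximation for a henselian pair whose ideal comes from a Noetherian base. -/
theorem exists_approx (B₀ B : Type u) [CommRing B₀] [CommRing B] [IsNoetherianRing B₀]
    [Algebra B₀ B] [Module.Flat B₀ B] (I₀ : Ideal B₀) (I : Ideal B)
    (hI : I = I₀.map (algebraMap B₀ B)) [HenselianRing B I]
    (C : Type u) [CommRing C] [Algebra B C] [Algebra.FinitePresentation B C]
    (hlift : ∀ t ∈ I, LiftsAway B C t) (n : ℕ) :
    ∃ L, n ≤ L ∧ ∀ σ : C →ₐ[B] B ⧸ I ^ L, ∃ τ : C →ₐ[B] B,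
      ∀ c b, Ideal.Quotient.mk _ b = σ c → τ c - b ∈ I ^ n := by
  obtain ⟨s, hs⟩ := IsNoetherian.noetherian I₀
  have hs' : Ideal.ofList s.toList = I₀ := by
    rw [Ideal.ofList, ← hs]; congr 1; ext; simp
  obtain ⟨L, hL, h⟩ := exists_approx_list (boundedTorsion_of_flat B₀ B) C s.toList
    (by rw [hs', ← hI]; infer_instance)
    (fun x hx => hlift _ (hI ▸ Ideal.mem_map_of_mem _ (hs' ▸ Ideal.subset_span hx))) ⊥ n
  rw [hs', ← hI] at h
  have hbot : (⊥ : Ideal B₀).map (algebraMap B₀ B) = ⊥ := Ideal.map_bot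
  have e1 : I ^ L ≤ (⊥ : Ideal B₀).map (algebraMap B₀ B) ⊔ I ^ L := le_sup_right
  refine ⟨L, hL, fun σ => ?_⟩
  obtain ⟨τ, hτ⟩ := h ((Ideal.Quotient.factorₐ B e1).comp σ)
  let e : (B ⧸ (⊥ : Ideal B₀).map (algebraMap B₀ B)) →ₐ[B] B :=
    Ideal.Quotient.liftₐ _ (AlgHom.id B B) (by simp [hbot])
  refine ⟨e.comp τ, fun c b hb => ?_⟩
  obtain ⟨b', hb', hb'b⟩ := hτ c b (by rw [AlgHom.comp_apply, ← hb]; rfl)
  rw [hbot, bot_sup_eq] at hb'b
  have : e (τ c) = b' := by rw [← hb']; rfl
  rw [AlgHom.comp_apply, this]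
  exact hb'b

end Groth.Agent.ParaFormal.Elkik
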