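import Mathlib

/-!
# Rank one transfers from the completion of a pair to the complement of `V(J)`
-/

set_option autoImplicit false

universe u

namespace Groth.Agent.ParaFormal.Elkik

open TensorProduct

/-- The module is free of rank one at `p`. -/
def RankOneAt {R : Type u} [CommRing R] (M : Type u) [AddCommGroup M] [Module R M] (p : Ideal R) [p.IsPrime] : Prop :=
  Module.Free (Localization.AtPrime p) (LocalizedModule p.primeCompl M) ∧
    Module.finrank (Localization.AtPrime p) (LocalizedModule p.primeCompl M) = 1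

/-- Base change of a free rank one module along a factorisation `R → S → T`. -/
theorem baseChange_rank_one {R S T : Type u} [CommRing R] [CommRing S] [CommRing T] [Nontrivial T]
    [Algebra R S] [Algebra R T] [Algebra S T] [IsScalarTower R S T]
    (M : Type u) [AddCommGroup M] [Module R M] (e : S ⊗[R] M ≃ₗ[S] S) :
    Nonempty (T ⊗[R] M ≃ₗ[T] T) :=
  ⟨(AlgebraTensorModule.cancelBaseChange R S T T M).symm.trans
    ((AlgebraTensorModule.congr (LinearEquiv.refl T T) e).trans (AlgebraTensorModule.rid S T T))⟩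

theorem rankOneAt_iff {R : Type u} [CommRing R] (M : Type u) [AddCommGroup M] [Module R M] [Module.Finite R M]
    (p : Ideal R) [p.IsPrime] :
    RankOneAt M p ↔ Nonempty (Localization.AtPrime p ⊗[R] M ≃ₗ[Localization.AtPrime p] Localization.AtPrime p) := by
  let Rp := Localization.AtPrime p
  let e₀ : LocalizedModule p.primeCompl M ≃ₗ[Rp] Rp ⊗[R] M := LocalizedModule.equivTensorProduct p.primeCompl M
  haveI : Module.Finite Rp (LocalizedModule p.primeCompl M) :=
    Module.Finite.of_isLocalizedModule p.primeCompl (LocalizedModule.mkLinearMap p.primeCompl M)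
  constructor
  · rintro ⟨hf, hr⟩
    haveI : Module.Free Rp (LocalizedModule p.primeCompl M) := hf
    exact ⟨e₀.symm.trans (LinearEquiv.ofFinrankEq _ _ (hr.trans (Module.finrank_self Rp).symm))⟩
  · rintro ⟨e⟩
    exact ⟨Module.Free.of_equiv (e₀.trans e).symm, (e₀.trans e).finrank_eq.trans (Module.finrank_self Rp)⟩

/-- Rank one at `p` from rank one on a basic neighbourhood. -/
theorem rankOneAt_of_away {R : Type u} [CommRing R] (M : Type u) [AddCommGroup M] [Module R M] [Module.Finite R M]
    {p : Ideal R} [p.IsPrime] {a : R} (ha : a ∉ p)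
    (e : Localization.Away a ⊗[R] M ≃ₗ[Localization.Away a] Localization.Away a) : RankOneAt M p := by
  letI : Algebra (Localization.Away a) (Localization.AtPrime p) :=
    (IsLocalization.Away.lift a (g := algebraMap R (Localization.AtPrime p))
      (IsLocalization.map_units (Localization.AtPrime p) (⟨a, ha⟩ : p.primeCompl))).toAlgebra
  haveI : IsScalarTower R (Localization.Away a) (Localization.AtPrime p) :=
    IsScalarTower.of_algebraMap_eq fun r => (IsLocalization.Away.lift_eq a _ r).symm
  exact (rankOneAt_iff M p).2 (baseChange_rank_one M e)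

/-- A basic neighbourhood on which a module is free of rank one. -/
theorem exists_away_of_rankOneAt {R : Type u} [CommRing R] (M : Type u) [AddCommGroup M] [Module R M]
    [Module.FinitePresentation R M] {p : Ideal R} [p.IsPrime] (h : RankOneAt M p) :
    ∃ a ∉ p, Nonempty (Localization.Away a ⊗[R] M ≃ₗ[Localization.Away a] Localization.Away a) := by
  haveI := h.1
  obtain ⟨r, hr, hfree, hrank⟩ := Module.FinitePresentation.exists_free_localizedModule_powers
    p.primeCompl (LocalizedModule.mkLinearMap p.primeCompl M) (Localization.AtPrime p)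
  haveI := hfree
  haveI : Nontrivial (Localization.Away r) :=
    RingHom.domain_nontrivial (IsLocalization.Away.lift r (g := algebraMap R (Localization.AtPrime p))
      (IsLocalization.map_units (Localization.AtPrime p) (⟨r, hr⟩ : p.primeCompl)))
  refine ⟨r, hr, ⟨(LocalizedModule.equivTensorProduct (Submonoid.powers r) M).symm.trans
    (LinearEquiv.ofFinrankEq _ _ ?_)⟩⟩
  rw [hrank, Module.finrank_self]
  exact h.2

/-- If `M` is rank one at the contraction of `P`, then so is its base change at `P`, and conversely. -/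
theorem rankOneAt_comap {R S : Type u} [CommRing R] [CommRing S] [Algebra R S]
    (M : Type u) [AddCommGroup M] [Module R M] [Module.Finite R M] (P : Ideal S) [P.IsPrime]
    (hfree : Module.Free (Localization.AtPrime (P.comap (algebraMap R S)))
      (LocalizedModule (P.comap (algebraMap R S)).primeCompl M))
    (h : RankOneAt (S ⊗[R] M) P) : RankOneAt M (P.comap (algebraMap R S)) := by
  let q := P.comap (algebraMap R S)
  let := Localization.AtPrime.algebraOfLiesOver q P
  obtain ⟨e⟩ := (rankOneAt_iff _ P).1 h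
  let e' : Localization.AtPrime P ⊗[Localization.AtPrime q] LocalizedModule q.primeCompl M ≃ₗ[Localization.AtPrime P]
      Localization.AtPrime P :=
    ((AlgebraTensorModule.congr (LinearEquiv.refl _ _)
        (LocalizedModule.equivTensorProduct q.primeCompl M)).trans
      ((AlgebraTensorModule.cancelBaseChange R (Localization.AtPrime q) _ _ M).trans
        ((AlgebraTensorModule.cancelBaseChange R S (Localization.AtPrime P) _ M).symm))).trans e
  haveI : Module.Finite (Localization.AtPrime q) (LocalizedModule q.primeCompl M) :=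
    Module.Finite.of_isLocalizedModule q.primeCompl (LocalizedModule.mkLinearMap q.primeCompl M)
  refine ⟨hfree, ?_⟩
  rw [← Module.finrank_baseChange (R := Localization.AtPrime P) (S := Localization.AtPrime q)
    (M' := LocalizedModule q.primeCompl M), e'.finrank_eq, Module.finrank_self]

/-- Rank one transfers from the completion. -/
theorem rankOneAt_of_completion {B : Type u} [CommRing B] (I J : Ideal B) (hI : I.FG) (hJfg : J.FG) (hIJ : I ≤ J)
    (hjac : I ≤ Ideal.jacobson ⊥) (M : Type u) [AddCommGroup M] [Module B M] [Module.FinitePresentation B M]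
    (hfree : ∀ (q : Ideal B) [q.IsPrime], ¬ J ≤ q →
      Module.Free (Localization.AtPrime q) (LocalizedModule q.primeCompl M))
    (hone : ∀ (P : Ideal (AdicCompletion I B)) [P.IsPrime], ¬ J.map (algebraMap B (AdicCompletion I B)) ≤ P →
      RankOneAt M (P.comap (algebraMap B (AdicCompletion I B))))
    (q : Ideal B) [q.IsPrime] (hq : ¬ J ≤ q) : RankOneAt M q := by
  classical
  refine ⟨hfree q hq, ?_⟩
  by_contra hne
  let A := AdicCompletion I B
  let F := Module.freeLocus B M
  have hF : IsOpen F := Module.isOpen_freeLocus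
  have hlc := Module.isLocallyConstant_rankAtStalk_freeLocus (R := B) (M := M)
  let U₀ : Set (PrimeSpectrum B) := Subtype.val '' {x : F | Module.rankAtStalk M x.1 = 1}
  let U₁ : Set (PrimeSpectrum B) := Subtype.val '' {x : F | Module.rankAtStalk M x.1 ≠ 1}
  have hU₀ : IsOpen U₀ := hF.isOpenMap_subtype_val _ (hlc.isOpen_fiber 1)
  have hU₁ : IsOpen U₁ := hF.isOpenMap_subtype_val _ ((hlc.isClosed_fiber 1).isOpen_compl)
  obtain ⟨s, g, hg⟩ := Submodule.fg_iff_exists_fin_generating_family.1 hJfg
  rw [Ideal.submodule_span_eq] at hg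
  have hmemF : ∀ (x : PrimeSpectrum B) (i : Fin s), g i ∉ x.asIdeal → x ∈ F := fun x i hi =>
    hfree x.asIdeal fun h => hi (h (hg ▸ Ideal.subset_span ⟨i, rfl⟩))
  have key : ∀ i, ∃ N : ℕ, ∀ n, g i ^ N ∈ I ^ n ⊔ q := by
    intro i
    by_cases hgq : g i ∈ q
    · exact ⟨1, fun n => by rw [pow_one]; exact Submodule.mem_sup_right hgq⟩
    let D : Set (PrimeSpectrum B) := PrimeSpectrum.basicOpen (g i)
    let Z₁ : Set (PrimeSpectrum B) := (U₀ ∩ D)ᶜ
    let Z₀ : Set (PrimeSpectrum B) := (U₁ ∩ D)ᶜ
    have hZ₁ : IsClosed Z₁ := (hU₀.inter (PrimeSpectrum.basicOpen (g i)).2).isClosed_compl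
    have hZ₀ : IsClosed Z₀ := (hU₁.inter (PrimeSpectrum.basicOpen (g i)).2).isClosed_compl
    have hrad : g i ∈ (PrimeSpectrum.vanishingIdeal Z₁ ⊔ PrimeSpectrum.vanishingIdeal Z₀).radical := by
      rw [← PrimeSpectrum.vanishingIdeal_zeroLocus_eq_radical, PrimeSpectrum.mem_vanishingIdeal]
      intro x hx
      rw [PrimeSpectrum.zeroLocus_sup, Set.mem_inter_iff,
        PrimeSpectrum.zeroLocus_vanishingIdeal_eq_closure, hZ₁.closure_eq,
        PrimeSpectrum.zeroLocus_vanishingIdeal_eq_closure, hZ₀.closure_eq] at hx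
      by_contra hgx
      have hxD : x ∈ D := hgx
      by_cases h1 : Module.rankAtStalk M x = 1
      · exact hx.1 ⟨⟨⟨x, hmemF x i hgx⟩, h1, rfl⟩, hxD⟩
      · exact hx.2 ⟨⟨⟨x, hmemF x i hgx⟩, h1, rfl⟩, hxD⟩
    obtain ⟨N, hN⟩ := hrad
    obtain ⟨a, ha, c, hc, hac⟩ := Submodule.mem_sup.1 hN
    have haq : a ∈ q := by
      refine (PrimeSpectrum.mem_vanishingIdeal Z₁ a).1 ha ⟨q, inferInstance⟩ ?_
      rintro ⟨⟨x, h1, hx⟩, -⟩
      have h1' : Module.rankAtStalk M x.1 = 1 := h1
      exact hne (by rw [show x.1 = ⟨q, inferInstance⟩ from hx] at h1'; exact h1')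
    have hcA : algebraMap B A c ∈ nilradical A := by
      rw [nilradical_eq_sInf, Ideal.mem_sInf]
      intro P hP
      haveI : P.IsPrime := hP
      let x : PrimeSpectrum B := ⟨P.comap (algebraMap B A), inferInstance⟩
      refine (PrimeSpectrum.mem_vanishingIdeal Z₀ c).1 hc x ?_
      rintro ⟨⟨y, h1, hy⟩, hxD⟩
      refine h1 ?_
      rw [hy]
      have hJP : ¬ J.map (algebraMap B A) ≤ P := fun h =>
        hxD (Ideal.map_le_iff_le_comap.1 h (hg ▸ Ideal.subset_span ⟨i, rfl⟩))
      exact (hone P hJP).2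
    obtain ⟨m, hm⟩ := hcA
    refine ⟨N * m, fun n => ?_⟩
    have hcn : c ^ m ∈ I ^ n := by
      rw [← Ideal.Quotient.eq_zero_iff_mem]
      have h0 : AdicCompletion.evalₐ I n (algebraMap B A (c ^ m)) = 0 := by
        rw [map_pow, hm, map_zero]
      rwa [AlgHom.commutes] at h0
    rw [pow_mul, ← hac]
    have hbin : (a + c) ^ m - c ^ m ∈ q := by
      obtain ⟨d, hd⟩ := sub_dvd_pow_sub_pow (a + c) c m
      rw [hd, add_sub_cancel_right]
      exact q.mul_mem_right _ haq
    rw [show (a + c) ^ m = c ^ m + ((a + c) ^ m - c ^ m) by ring]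
    exact Submodule.add_mem_sup hcn hbin
  choose N hN using key
  have hJrad : J ≤ (Ideal.span (Set.range fun i => g i ^ N i)).radical := by
    rw [← hg, Ideal.span_le]
    rintro _ ⟨i, rfl⟩
    exact ⟨N i, Ideal.subset_span ⟨i, rfl⟩⟩
  obtain ⟨h, hh⟩ := Ideal.exists_pow_le_of_le_radical_of_fg (hIJ.trans hJrad) hI
  have hle : I ^ h ≤ I ^ (h + 1) ⊔ q := hh.trans (Ideal.span_le.2 (by rintro _ ⟨i, rfl⟩; exact hN i _))
  have hIq : I ^ h ≤ q := by
    let π := Ideal.Quotient.mk q
    have hfg : ((I ^ h).map π).FG := Ideal.FG.map (Submodule.FG.pow hI h) π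
    have h1 : (I ^ h).map π ≤ (I.map π) * (I ^ h).map π := by
      rw [← Ideal.map_mul, ← pow_succ']
      refine (Ideal.map_mono hle).trans ?_
      rw [Ideal.map_sup, Ideal.map_quotient_self, sup_bot_eq]
    have h2 : (I ^ h).map π = ⊥ := by
      refine Submodule.eq_bot_of_le_smul_of_le_jacobson_bot (I.map π) _ hfg h1 ?_
      intro y hy
      obtain ⟨x, hx, rfl⟩ := (Ideal.mem_map_iff_of_surjective π Ideal.Quotient.mk_surjective).1 hy
      rw [Ideal.mem_jacobson_bot]
      intro z
      obtain ⟨w, rfl⟩ := Ideal.Quotient.mk_surjective z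
      have := Ideal.mem_jacobson_bot.1 (hjac hx) w
      have := this.map π
      rwa [map_add, map_mul, map_one] at this
    intro x hx
    rw [← Ideal.Quotient.eq_zero_iff_mem, ← Submodule.mem_bot (R := B ⧸ q), ← h2]
    exact Ideal.mem_map_of_mem π hx
  have hIq' : I ≤ q := fun x hx =>
    Ideal.IsPrime.mem_of_pow_mem ‹q.IsPrime› h (hIq (Ideal.pow_mem_pow hx h))
  let χ : A →ₐ[B] B ⧸ I := AdicCompletion.evalOneₐ I
  haveI : (q.map (Ideal.Quotient.mk I)).IsPrime :=
    Ideal.map_isPrime_of_surjective Ideal.Quotient.mk_surjective (by rwa [Ideal.mk_ker])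
  let P : Ideal A := (q.map (Ideal.Quotient.mk I)).comap χ.toRingHom
  have hP : P.comap (algebraMap B A) = q := by
    rw [Ideal.comap_comap, AlgHom.toRingHom_eq_coe, AlgHom.comp_algebraMap, Ideal.Quotient.algebraMap_eq,
      Ideal.comap_map_of_surjective' _ Ideal.Quotient.mk_surjective, Ideal.mk_ker, sup_eq_left.2 hIq']
  haveI : P.IsPrime := Ideal.IsPrime.comap _
  have hJP : ¬ J.map (algebraMap B A) ≤ P := fun hle' => hq (hP ▸ Ideal.map_le_iff_le_comap.1 hle')
  have key2 := hone P hJP
  have e : (⟨P.comap (algebraMap B A), inferInstance⟩ : PrimeSpectrum B) = ⟨q, inferInstance⟩ :=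
    PrimeSpectrum.ext hP
  exact hne ((congrArg (Module.rankAtStalk M) e).symm.trans key2.2)

end Groth.Agent.ParaFormal.Elkik
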