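import Groth.Agent.ParaFormal.Elkik.Main
import Groth.Agent.ParaFormal.Elkik.Rank
import Groth.Agent.ParaFormal.Surjective
import Groth.Agent.FlatMor.PullTilde
import Groth.Agent.Props.SubExt
import Groth.Agent.ProjTwist.Invertible
import Groth.Agent.ZeroSchemeLib.Basic
import Groth.Prelude.Def_Formal2

/-!
# Picard surjectivity along the completion of a henselian pair, off `V(J)`
-/

set_option autoImplicit false
set_option maxHeartbeats 800000
set_option backward.isDefEq.respectTransparency.types false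

noncomputable section

universe u

open CategoryTheory AlgebraicGeometry TopologicalSpace
open scoped TensorProduct

namespace Groth.Agent.ParaFormal.Elkik

open Groth.Agent.Props.QTilde

/-- `Spec R[1/a] → Spec R`. -/
abbrev awayMap {R : Type u} [CommRing R] (a : R) :
    Spec (CommRingCat.of (Localization.Away a)) ⟶ Spec (CommRingCat.of R) :=
  Spec.map (CommRingCat.ofHom (algebraMap R (Localization.Away a)))

theorem range_awayMap {R : Type u} [CommRing R] (a : R) :
    Set.range (awayMap a) = (PrimeSpectrum.basicOpen a : Set (PrimeSpectrum R)) :=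
  PrimeSpectrum.localization_away_comap_range (Localization.Away a) a

instance {R : Type u} [CommRing R] (a : R) : IsOpenImmersion (awayMap a) :=
  IsOpenImmersion.of_isLocalization a

theorem qcoh_tilde {R : CommRingCat.{u}} (M : ModuleCat.{u} R) : (tilde M).IsQuasicoherent :=
  inferInstance

/-- Pullback of `M^~` to `Spec A` as a tilde. -/
theorem nonempty_pullback_algebraMap' {R A : Type u} [CommRing R] [CommRing A] [Algebra R A]
    (M : Type u) [AddCommGroup M] [Module R M] (N : Type u) [AddCommGroup N] [Module A N]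
    (e : A ⊗[R] M ≃ₗ[A] N) :
    Nonempty ((Scheme.Modules.pullback (Spec.map (CommRingCat.ofHom (algebraMap R A)))).obj
      (tilde (R := CommRingCat.of R) (ModuleCat.of R M)) ≅ tilde (R := CommRingCat.of A) (ModuleCat.of A N)) := by
  haveI := qcoh_tilde (R := CommRingCat.of A) (ModuleCat.of A N)
  refine FlatMor.PullTilde.nonempty_pullback_tilde (CommRingCat.ofHom (algebraMap R A)) (ModuleCat.of R M) _ ?_
  have hA : (CommRingCat.ofHom (algebraMap R A)).hom.toAlgebra = ‹Algebra R A› :=
    Algebra.algebra_ext _ _ fun _ => rfl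
  letI := (CommRingCat.ofHom (algebraMap R A)).hom.toAlgebra
  suffices h : ((CommRingCat.of A : Type u) ⊗[(CommRingCat.of R : Type u)] (ModuleCat.of R M : ModuleCat.{u} (CommRingCat.of R))) ≃ₗ[(CommRingCat.of A : Type u)]
      (ModuleCat.of A N : ModuleCat.{u} (CommRingCat.of A)) from h.trans (topEquiv (R := CommRingCat.of A) (ModuleCat.of A N))
  convert e

/-- `M` free of rank one on `D(a)` gives an invertible sheaf there. -/
theorem isInvertible_restrict_tilde {R : Type u} [CommRing R] (M : Type u) [AddCommGroup M] [Module R M] (a : R)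
    (e : Localization.Away a ⊗[R] M ≃ₗ[Localization.Away a] Localization.Away a) :
    PicF.IsInvertible ((tilde (R := CommRingCat.of R) (ModuleCat.of R M)).restrict
      (Dop a).ι) := by
  let Ra := Localization.Away a
  let N : (Spec (CommRingCat.of Ra)).Modules := tilde (R := CommRingCat.of Ra) (ModuleCat.of Ra Ra)
  obtain ⟨φ⟩ := nonempty_pullback_algebraMap' M Ra e
  let D : (Spec (CommRingCat.of R)).Opens := PrimeSpectrum.basicOpen a
  have hr : Set.range D.ι ⊆ Set.range (awayMap a) := by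
    rw [range_awayMap, Scheme.Opens.range_ι]
    exact subset_rfl
  let σ := IsOpenImmersion.lift (awayMap a) D.ι hr
  have hN : PicF.IsInvertible N :=
    ParaFLib.isInvertible_structureModule (Spec (CommRingCat.of Ra))
  refine PicCl.isInvertible_of_iso
    ((Scheme.Modules.restrictFunctorIsoPullback D.ι).app _ ≪≫
      (Scheme.Modules.pullbackCongr (IsOpenImmersion.lift_fac (awayMap a) D.ι hr).symm).app _ ≪≫
      ((Scheme.Modules.pullbackComp σ (awayMap a)).app _).symm).symm ?_
  exact PicCl.isInvertible_pullback σ (PicCl.isInvertible_of_iso φ.symm hN)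

/-- An extension of a line bundle is a module free of rank one along the open. -/
theorem exists_away_of_isInvertible_restrict {R : Type u} [CommRing R] (M : Type u) [AddCommGroup M] [Module R M]
    {U : (Spec (CommRingCat.of R)).Opens}
    (h : PicF.IsInvertible ((tilde (R := CommRingCat.of R) (ModuleCat.of R M)).restrict U.ι))
    (P : PrimeSpectrum R) (hP : P ∈ U) :
    ∃ a ∉ P.asIdeal, Nonempty (Localization.Away a ⊗[R] M ≃ₗ[Localization.Away a] Localization.Away a) := by
  let F : (Spec (CommRingCat.of R)).Modules := tilde (R := CommRingCat.of R) (ModuleCat.of R M)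
  obtain ⟨W, hW, ⟨i⟩⟩ := h ⟨P, hP⟩
  obtain ⟨_, ⟨a, rfl⟩, hPa, haW⟩ := (Opens.isBasis_iff_nbhd.1 PrimeSpectrum.isBasis_basic_opens)
    (show P ∈ (U.ι ''ᵁ W : TopologicalSpace.Opens (PrimeSpectrum R)) from ⟨⟨P, hP⟩, hW, rfl⟩)
  refine ⟨a, hPa, ?_⟩
  have hr : Set.range (awayMap a) ⊆ Set.range (W.ι ≫ U.ι) := by
    rw [range_awayMap, Scheme.Hom.comp_base, TopCat.coe_comp, Set.range_comp, Scheme.Opens.range_ι]
    exact haW
  let k := IsOpenImmersion.lift (W.ι ≫ U.ι) (awayMap a) hr
  let Ra := Localization.Away a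
  obtain ⟨φ⟩ := nonempty_pullback_algebraMap' M (Ra ⊗[R] M) (LinearEquiv.refl Ra (Ra ⊗[R] M))
  let ψ : (Scheme.Modules.pullback (awayMap a)).obj F ≅ Coh.structureModule _ :=
    (Scheme.Modules.pullbackCongr (IsOpenImmersion.lift_fac (W.ι ≫ U.ι) (awayMap a) hr).symm).app F ≪≫
      ((Scheme.Modules.pullbackComp k (W.ι ≫ U.ι)).app F).symm ≪≫
      (Scheme.Modules.pullback k).mapIso
        (((Scheme.Modules.pullbackComp W.ι U.ι).app F).symm ≪≫
          (Scheme.Modules.pullback W.ι).mapIso ((Scheme.Modules.restrictFunctorIsoPullback U.ι).app F).symm ≪≫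
          ((Scheme.Modules.restrictFunctorIsoPullback W.ι).app _).symm ≪≫ i) ≪≫
      QCoh.pullbackUnitIso k
  let e : (tilde.functor (CommRingCat.of Ra)).obj (ModuleCat.of Ra (Ra ⊗[R] M)) ≅
      (tilde.functor (CommRingCat.of Ra)).obj (ModuleCat.of Ra Ra) := φ.symm ≪≫ ψ
  exact ⟨(tilde.fullyFaithfulFunctor.preimageIso e).toLinearEquiv⟩

/-- A line bundle on an open of a Noetherian affine scheme comes from a finite module. -/
theorem exists_moduleCat_of_invertible {R : CommRingCat.{u}} [IsNoetherianRing R]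
    (P : (Spec R).Opens) (L₀ : (P : Scheme.{u}).Modules) (hL₀ : PicF.IsInvertible L₀) :
    ∃ N : ModuleCat.{u} R, Module.Finite R N ∧ Nonempty ((tilde N).restrict P.ι ≅ L₀) := by
  have hqc : IsCompact (P : Set (Spec R)) := NoetherianSpace.isCompact _
  haveI : L₀.IsQuasicoherent := ProjTwist.isQCoh_of_isInvertible hL₀
  obtain ⟨G, hG, hGft, ⟨ε⟩⟩ := Props.SubExt.exists_finiteType_extension (U := P) hqc L₀
    (ZeroSchemeLib.isFiniteType_of_isInvertible hL₀)
  haveI : G.IsQuasicoherent := hG
  haveI : SheafOfModules.IsFiniteType.{u} G := hGft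
  have i1 : IsIso G.fromTildeΓ := Scheme.Modules.isIso_fromTildeΓ_of_isQuasicoherent G
  refine ⟨moduleSpecΓFunctor.obj G, ?_,
    ⟨(Scheme.Modules.restrictFunctor P.ι).mapIso (@asIso _ _ _ _ G.fromTildeΓ i1) ≪≫ ε⟩⟩
  have := QCoh.finite_sections_of_isFiniteType G (isAffineOpen_top (Spec R))
  show Module.Finite R Γ(G, ⊤)
  exact finite_of_ringEquiv (topRingEquiv R) (topRingEquiv_smul G)

/-- A line bundle on an open of a Noetherian affine scheme comes from a finite module. -/
theorem exists_module_of_invertible {A : Type u} [CommRing A] [IsNoetherianRing A]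
    (P : (Spec (CommRingCat.of A)).Opens) (L₀ : (P : Scheme.{u}).Modules) (hL₀ : PicF.IsInvertible L₀) :
    ∃ (N : Type u) (_ : AddCommGroup N) (_ : Module A N), Module.Finite A N ∧
      Nonempty ((tilde (R := CommRingCat.of A) (ModuleCat.of A N)).restrict P.ι ≅ L₀) := by
  haveI : IsNoetherianRing (CommRingCat.of A) := ‹IsNoetherianRing A›
  obtain ⟨⟨N⟩, hN, e⟩ := exists_moduleCat_of_invertible P L₀ hL₀
  exact ⟨N, _, _, hN, e⟩

/-- A finitely presented module free of rank one along `V` gives a line bundle on `V`. -/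
theorem isInvertible_of_rankOneAt {B : Type u} [CommRing B] (M : Type u) [AddCommGroup M] [Module B M]
    [Module.FinitePresentation B M] (V : (Spec (CommRingCat.of B)).Opens)
    (h : ∀ q : ↥(Spec (CommRingCat.of B)), q ∈ (V : Set ↥(Spec (CommRingCat.of B))) → RankOneAt M q.asIdeal) :
    PicF.IsInvertible ((tilde (R := CommRingCat.of B) (ModuleCat.of B M)).restrict V.ι) := by
  refine ParaFLib.isInvertible_of_local fun y => ?_
  obtain ⟨a, ha, ⟨e⟩⟩ := exists_away_of_rankOneAt M (h y.1 y.2)
  let D : (Spec (CommRingCat.of B)).Opens := Dop a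
  refine ⟨V.ι ⁻¹ᵁ D, ha, ?_⟩
  refine PicCl.isInvertible_of_iso ?_ (PicCl.isInvertible_pullback (V.ι ∣_ D) (isInvertible_restrict_tilde M a e))
  exact (PicCl.restrictPullbackIso V.ι D _).symm ≪≫
    (Scheme.Modules.restrictFunctor (V.ι ⁻¹ᵁ D).ι).mapIso
      ((Scheme.Modules.restrictFunctorIsoPullback V.ι).app _).symm

/-- The Picard surjectivity, for modules. -/
theorem exists_module_pullback
    (B₀ B : Type u) [CommRing B₀] [CommRing B] [IsNoetherianRing B₀] [Algebra B₀ B] [Module.Flat B₀ B]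
    (I₀ : Ideal B₀) (I : Ideal B) (hI : I = Ideal.map (algebraMap B₀ B) I₀) [HenselianRing B I]
    [IsNoetherianRing (AdicCompletion I B)]
    (J : Ideal B) (hJ : I ≤ J)
    (N : Type u) [AddCommGroup N] [Module (AdicCompletion I B) N] [Module.Finite (AdicCompletion I B) N]
    (hN : ∀ (p : Ideal (AdicCompletion I B)) [p.IsPrime],
      ¬ J.map (algebraMap B (AdicCompletion I B)) ≤ p → RankOneAt N p) :
    ∃ (M : Type u) (_ : AddCommGroup M) (_ : Module B M), Module.FinitePresentation B M ∧
      (∀ (q : Ideal B) [q.IsPrime], ¬ J ≤ q → RankOneAt M q) ∧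
      Nonempty (AdicCompletion I B ⊗[B] M ≃ₗ[AdicCompletion I B] N) := by
  obtain ⟨M, _, _, _, _, hMfree, ⟨eM⟩⟩ := exists_algebraisation B₀ B I₀ I hI J hJ N
    fun p _ hp => (hN p hp).1
  have hIfg : I.FG := hI ▸ Ideal.FG.map (IsNoetherian.noetherian I₀) _
  have hJfg : J.FG := fg_of_fg_map_completion hIfg hJ (IsNoetherian.noetherian _)
  refine ⟨M, inferInstance, inferInstance, inferInstance, fun q _ hq => ?_, ⟨eM⟩⟩
  refine rankOneAt_of_completion I J hIfg hJfg hJ HenselianRing.jac M hMfree (fun p _ hp => ?_) q hq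
  refine rankOneAt_comap M p (hMfree _ fun h => hp (Ideal.map_le_iff_le_comap.2 h)) ?_
  obtain ⟨e⟩ := (rankOneAt_iff N p).1 (hN p hp)
  exact (rankOneAt_iff _ p).2 ⟨(TensorProduct.AlgebraTensorModule.congr (LinearEquiv.refl _ _) eM).trans e⟩

/-- Picard surjectivity for `Spec A → Spec B` from the statement on modules. -/
theorem picPullbackSurjective_of_modules {B A : Type u} [CommRing B] [CommRing A] [Algebra B A]
    [IsNoetherianRing A] (J : Ideal B)
    (hmod : ∀ (N : Type u) [AddCommGroup N] [Module A N] [Module.Finite A N],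
      (∀ (p : Ideal A) [p.IsPrime], ¬ J.map (algebraMap B A) ≤ p → RankOneAt N p) →
        ∃ (M : Type u) (_ : AddCommGroup M) (_ : Module B M), Module.FinitePresentation B M ∧
          (∀ (q : Ideal B) [q.IsPrime], ¬ J ≤ q → RankOneAt M q) ∧ Nonempty (A ⊗[B] M ≃ₗ[A] N))
    (V : (Spec (CommRingCat.of B)).Opens)
    (hV : (V : Set (Spec (CommRingCat.of B))) = (PrimeSpectrum.zeroLocus (J : Set B))ᶜ) :
    Formal2.PicPullbackSurjective (Spec.map (CommRingCat.ofHom (algebraMap B A)) ∣_ V) := by
  intro L₀ hL₀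
  let π := Spec.map (CommRingCat.ofHom (algebraMap B A))
  let P := π ⁻¹ᵁ V
  have hmemV : ∀ q : ↥(Spec (CommRingCat.of B)), q ∈ (V : Set ↥(Spec (CommRingCat.of B))) ↔ ¬ J ≤ q.asIdeal := fun q =>
    Set.ext_iff.1 hV q
  obtain ⟨N, _, _, _, ⟨ν⟩⟩ := exists_module_of_invertible P L₀ hL₀
  obtain ⟨M, _, _, _, hM, ⟨eM⟩⟩ := hmod N fun p _ hp => by
    obtain ⟨a, ha, ⟨e⟩⟩ := exists_away_of_isInvertible_restrict (R := A) N
      (PicCl.isInvertible_of_iso ν.symm hL₀) ⟨p, inferInstance⟩
      ((hmemV ⟨p.comap (algebraMap B A), inferInstance⟩).2 fun h => hp (Ideal.map_le_iff_le_comap.2 h))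
    exact rankOneAt_of_away N ha e
  obtain ⟨φ⟩ := nonempty_pullback_algebraMap' M N eM
  exact ⟨_, isInvertible_of_rankOneAt M V fun q hq => hM q.asIdeal ((hmemV q).1 hq),
    ⟨(PicCl.restrictPullbackIso π V _).symm ≪≫ (Scheme.Modules.restrictFunctor P.ι).mapIso φ ≪≫ ν⟩⟩

end Groth.Agent.ParaFormal.Elkik
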