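import Mathlib

/-!
# Regular matrices close to a given matrix over a complete Noetherian ring are equivalent to it
-/

set_option autoImplicit false
set_option maxHeartbeats 800000

universe u

namespace Groth.Agent.ParaFormal.Elkik

open Matrix

variable {R : Type u} [CommRing R]

/-- All entries lie in `J`. -/
def EntryMem (J : Ideal R) {m n : Type} (X : Matrix m n R) : Prop := ∀ i j, X i j ∈ J

namespace EntryMem

variable {J K : Ideal R} {l m n : Type} {X Y : Matrix m n R}

theorem zero : EntryMem J (0 : Matrix m n R) := fun _ _ => J.zero_mem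

theorem add (hX : EntryMem J X) (hY : EntryMem J Y) : EntryMem J (X + Y) :=
  fun i j => J.add_mem (hX i j) (hY i j)

theorem sub (hX : EntryMem J X) (hY : EntryMem J Y) : EntryMem J (X - Y) :=
  fun i j => J.sub_mem (hX i j) (hY i j)

theorem neg (hX : EntryMem J X) : EntryMem J (-X) := fun i j => J.neg_mem (hX i j)

theorem mono (h : J ≤ K) (hX : EntryMem J X) : EntryMem K X := fun i j => h (hX i j)

theorem mul [Fintype m] {X : Matrix l m R} {Y : Matrix m n R} (hX : EntryMem J X) (hY : EntryMem K Y) :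
    EntryMem (J * K) (X * Y) := fun i j => by
  rw [Matrix.mul_apply]
  exact Ideal.sum_mem _ fun k _ => Ideal.mul_mem_mul (hX i k) (hY k j)

theorem mul_left [Fintype m] {X : Matrix l m R} {Y : Matrix m n R} (hY : EntryMem K Y) :
    EntryMem K (X * Y) := fun i j => by
  rw [Matrix.mul_apply]
  exact Ideal.sum_mem _ fun k _ => K.mul_mem_left _ (hY k j)

theorem mul_right [Fintype m] {X : Matrix l m R} {Y : Matrix m n R} (hX : EntryMem J X) :
    EntryMem J (X * Y) := fun i j => by
  rw [Matrix.mul_apply]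
  exact Ideal.sum_mem _ fun k _ => J.mul_mem_right _ (hX i k)

end EntryMem

theorem entryMem_iff_mem_smul_top {J : Ideal R} {m n : Type} [Fintype m] [Fintype n]
    (X : Matrix m n R) : EntryMem J X ↔ X ∈ J • (⊤ : Submodule R (Matrix m n R)) := by
  classical
  refine ⟨fun h => ?_, fun h => ?_⟩
  · rw [Matrix.matrix_eq_sum_single X]
    refine Submodule.sum_mem _ fun i _ => Submodule.sum_mem _ fun j _ => ?_
    have : Matrix.single i j (X i j) = X i j • Matrix.single i j (1 : R) := by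
      rw [Matrix.smul_single, smul_eq_mul, mul_one]
    rw [this]
    exact Submodule.smul_mem_smul (h i j) trivial
  · refine Submodule.smul_induction_on h (fun r hr x _ i j => ?_) fun x y hx hy => hx.add hy
    exact J.mul_mem_right _ hr

theorem map_smul_top_le {J : Ideal R} {M N : Type u} [AddCommGroup M] [Module R M] [AddCommGroup N]
    [Module R N] (g : M →ₗ[R] N) {x : M} (hx : x ∈ J • (⊤ : Submodule R M)) :
    g x ∈ J • (⊤ : Submodule R N) :=
  Submodule.map_le_iff_le_comap.1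
    ((Submodule.map_smul'' J ⊤ g).le.trans (Submodule.smul_mono le_rfl le_top)) hx

variable [IsNoetherianRing R] (I : Ideal R)

/-- The Artin–Rees estimate: approximate tangent vectors are close to tangent vectors. -/
theorem exists_shift {s p q : ℕ} (f : Fin s → R) (h : ℕ) (hh : I ^ h ≤ Ideal.span (Set.range f))
    (φ : Matrix (Fin p) (Fin q) R) :
    ∃ c : ℕ, ∀ n, c ≤ n → ∀ x : Matrix (Fin p) (Fin q) R, EntryMem (I ^ n) x →
      (∀ i, ∃ (a : Matrix (Fin p) (Fin p) R) (b : Matrix (Fin q) (Fin q) R), EntryMem (I ^ (2 * n)) (f i • x - (a * φ + φ * b))) →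
      ∃ (a : Matrix (Fin p) (Fin p) R) (b : Matrix (Fin q) (Fin q) R), EntryMem (I ^ (n - c)) a ∧ EntryMem (I ^ (n - c)) b ∧
        EntryMem (I ^ (2 * n - c)) (x - (a * φ + φ * b)) := by
  classical
  let Λ : (Matrix (Fin p) (Fin p) R × Matrix (Fin q) (Fin q) R) →ₗ[R] Matrix (Fin p) (Fin q) R :=
    { toFun := fun ab => ab.1 * φ + φ * ab.2
      map_add' := fun x y => by simp only [Prod.fst_add, Prod.snd_add, Matrix.add_mul, Matrix.mul_add]; abel
      map_smul' := fun r x => by
        simp only [Prod.smul_fst, Prod.smul_snd, Matrix.smul_mul, Matrix.mul_smul, smul_add,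
          RingHom.id_apply] }
  let Φ := LinearMap.range Λ
  let Θ : Matrix (Fin p) (Fin q) R →ₗ[R] (Fin s → Matrix (Fin p) (Fin q) R ⧸ Φ) :=
    LinearMap.pi fun i => Φ.mkQ ∘ₗ (f i • LinearMap.id)
  obtain ⟨c₁, hc₁⟩ := I.exists_pow_inf_eq_pow_smul (LinearMap.range Θ)
  obtain ⟨c₂, hc₂⟩ := I.exists_pow_inf_eq_pow_smul (LinearMap.ker Θ)
  refine ⟨c₁ + c₂ + h, fun n hn x hx hf => ?_⟩
  have hΘx : Θ x ∈ I ^ (2 * n) • (⊤ : Submodule R (Fin s → Matrix (Fin p) (Fin q) R ⧸ Φ)) := by
    rw [show Θ x = ∑ i, LinearMap.single R (fun _ => Matrix (Fin p) (Fin q) R ⧸ Φ) i (Θ x i) from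
      (Finset.univ_sum_single (Θ x)).symm]
    refine Submodule.sum_mem _ fun i _ => map_smul_top_le _ ?_
    obtain ⟨a, b, hab⟩ := hf i
    have e : Θ x i = Φ.mkQ (f i • x - (a * φ + φ * b)) := by
      rw [map_sub, (Submodule.Quotient.mk_eq_zero Φ).2 ⟨(a, b), rfl⟩ |> fun h => (show Φ.mkQ (a * φ + φ * b) = 0 from h),
        sub_zero]
      rfl
    rw [e]
    exact map_smul_top_le _ ((entryMem_iff_mem_smul_top _).1 hab)
  have h1 : Θ x ∈ I ^ (2 * n - c₁) • (LinearMap.range Θ) := by
    have : Θ x ∈ I ^ (2 * n) • ⊤ ⊓ LinearMap.range Θ := ⟨hΘx, x, rfl⟩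
    rw [hc₁ (2 * n) (by omega)] at this
    exact Submodule.smul_mono le_rfl inf_le_right this
  rw [← Submodule.map_top Θ, ← Submodule.map_smul''] at h1
  obtain ⟨y, hy, hyx⟩ := h1
  have hy' : EntryMem (I ^ (2 * n - c₁)) y := (entryMem_iff_mem_smul_top y).2 hy
  have hz : x - y ∈ I ^ n • ⊤ ⊓ LinearMap.ker Θ :=
    ⟨(entryMem_iff_mem_smul_top _).1 (hx.sub (hy'.mono (Ideal.pow_le_pow_right (by omega)))),
      by simp [LinearMap.mem_ker, hyx]⟩
  rw [hc₂ n (by omega)] at hz
  have hK : I ^ h • LinearMap.ker Θ ≤ Φ := by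
    refine Submodule.smul_le.2 fun r hr z hz => ?_
    obtain ⟨c, rfl⟩ := Ideal.mem_span_range_iff_exists_fun.1 (hh hr)
    rw [Finset.sum_smul]
    refine Submodule.sum_mem _ fun i _ => ?_
    rw [mul_smul]
    refine Φ.smul_mem _ ?_
    exact (Submodule.Quotient.mk_eq_zero Φ).1 (congrFun hz i)
  have hz' : x - y ∈ I ^ (n - (c₂ + h)) • Φ := by
    have h2 : x - y ∈ I ^ (n - c₂) • LinearMap.ker Θ := Submodule.smul_mono le_rfl inf_le_right hz
    rw [show n - c₂ = (n - (c₂ + h)) + h by omega, pow_add, Submodule.mul_smul] at h2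
    exact Submodule.smul_mono le_rfl hK h2
  rw [show Φ = Submodule.map Λ ⊤ from (Submodule.map_top Λ).symm, ← Submodule.map_smul''] at hz'
  obtain ⟨⟨a, b⟩, hab, habx⟩ := hz'
  refine ⟨a, b, ?_, ?_, ?_⟩
  · exact EntryMem.mono (Ideal.pow_le_pow_right (by omega))
      ((entryMem_iff_mem_smul_top a).2 (map_smul_top_le (LinearMap.fst R _ _) hab))
  · exact EntryMem.mono (Ideal.pow_le_pow_right (by omega))
      ((entryMem_iff_mem_smul_top b).2 (map_smul_top_le (LinearMap.snd R _ _) hab))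
  · have : x - (a * φ + φ * b) = y := by
      rw [show a * φ + φ * b = x - y from habx, sub_sub_cancel]
    rw [this]
    exact hy'.mono (Ideal.pow_le_pow_right (by omega))

omit [IsNoetherianRing R] in
theorem isUnit_of_sub_one_mem [IsAdicComplete I R] {p : ℕ} {U : Matrix (Fin p) (Fin p) R}
    (h : EntryMem I (U - 1)) : IsUnit U := by
  rw [Matrix.isUnit_iff_isUnit_det]
  have hU : U.map (Ideal.Quotient.mk I) = 1 := by
    rw [← Matrix.map_one (Ideal.Quotient.mk I) (map_zero _) (map_one _)]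
    ext i j
    rw [Matrix.map_apply, Matrix.map_apply, Ideal.Quotient.eq]
    exact h i j
  have hdet : U.det - 1 ∈ I := by
    rw [← Ideal.Quotient.eq, map_one, RingHom.map_det, RingHom.mapMatrix_apply, hU, Matrix.det_one]
  have h3 := Ideal.mem_jacobson_bot.1 (IsAdicComplete.le_jacobson_bot I hdet) 1
  simpa using h3

/-- Regular matrices close to `φ` are equivalent to `φ`. -/
theorem exists_equiv_of_close [IsAdicComplete I R] {s p q : ℕ} (f : Fin s → R) (h : ℕ)
    (hh : I ^ h ≤ Ideal.span (Set.range f)) (φ : Matrix (Fin p) (Fin q) R) :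
    ∃ n₀ : ℕ, ∀ φ'' : Matrix (Fin p) (Fin q) R,
      (∀ i, ∃ ψ : Matrix (Fin q) (Fin p) R, φ'' * ψ * φ'' = f i • φ'') →
      EntryMem (I ^ n₀) (φ'' - φ) →
      ∃ (U : Matrix (Fin p) (Fin p) R) (V : Matrix (Fin q) (Fin q) R),
        IsUnit U ∧ IsUnit V ∧ φ = U * φ'' * V := by
  classical
  obtain ⟨c, hc⟩ := exists_shift I f h hh φ
  refine ⟨2 * c + 1, fun φ'' hreg hclose => ?_⟩
  let St : ℕ → Matrix (Fin p) (Fin p) R × Matrix (Fin q) (Fin q) R → Prop := fun k UV =>
    EntryMem I (UV.1 - 1) ∧ EntryMem I (UV.2 - 1) ∧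
      EntryMem (I ^ (2 * c + 1 + k)) (UV.1 * φ'' * UV.2 - φ)
  have h0 : St 0 (1, 1) :=
    ⟨by rw [sub_self]; exact EntryMem.zero, by rw [sub_self]; exact EntryMem.zero,
      by rw [Matrix.one_mul, Matrix.mul_one]; exact hclose⟩
  have hstep : ∀ k UV, St k UV → ∃ UV', St (k + 1) UV' ∧
      EntryMem (I ^ (k + 1)) (UV'.1 - UV.1) ∧ EntryMem (I ^ (k + 1)) (UV'.2 - UV.2) := by
    rintro k ⟨U, V⟩ ⟨hU, hV, hclose'⟩
    let n := 2 * c + 1 + k
    let φk := U * φ'' * V
    let Δ := φk - φ
    obtain ⟨Uu, hUu⟩ := isUnit_of_sub_one_mem I hU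
    obtain ⟨Vu, hVu⟩ := isUnit_of_sub_one_mem I hV
    have hlin : ∀ i, ∃ (a : Matrix (Fin p) (Fin p) R) (b : Matrix (Fin q) (Fin q) R), EntryMem (I ^ (2 * n)) (f i • Δ - (a * φ + φ * b)) := by
      intro i
      obtain ⟨ψ₀, hψ₀⟩ := hreg i
      let ψ := (↑Vu⁻¹ : Matrix (Fin q) (Fin q) R) * ψ₀ * (↑Uu⁻¹ : Matrix (Fin p) (Fin p) R)
      have hψ : φk * ψ * φk = f i • φk := by
        have e1 : V * (↑Vu⁻¹ : Matrix (Fin q) (Fin q) R) = 1 := by
          have hVu' : (Vu : Matrix (Fin q) (Fin q) R) = V := hVu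
          rw [← hVu']; exact Vu.mul_inv
        have e2 : (↑Uu⁻¹ : Matrix (Fin p) (Fin p) R) * U = 1 := by
          have hUu' : (Uu : Matrix (Fin p) (Fin p) R) = U := hUu
          rw [← hUu']; exact Uu.inv_mul
        calc φk * ψ * φk = U * φ'' * (V * ↑Vu⁻¹) * ψ₀ * (↑Uu⁻¹ * U) * φ'' * V := by
              simp only [φk, ψ, Matrix.mul_assoc]
          _ = U * (φ'' * ψ₀ * φ'') * V := by
              rw [e1, e2, Matrix.mul_one, Matrix.mul_one]; simp only [Matrix.mul_assoc]
          _ = f i • φk := by simp only [hψ₀, φk, Matrix.mul_smul, Matrix.smul_mul]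
      refine ⟨Δ * ψ, ψ * φ - f i • 1 + ψ * Δ, ?_⟩
      have e : f i • Δ - (Δ * ψ * φ + φ * (ψ * φ - f i • 1 + ψ * Δ)) = Δ * ψ * Δ := by
        have e3 : φk = φ + Δ := by simp only [Δ]; abel
        rw [e3] at hψ
        simp only [Matrix.add_mul, Matrix.mul_add, smul_add] at hψ
        simp only [Matrix.mul_add, Matrix.mul_sub, Matrix.mul_smul, Matrix.mul_one]
        simp only [← Matrix.mul_assoc]
        rw [← sub_eq_zero] at hψ ⊢
        rw [← neg_eq_zero, ← hψ]
        abel
      rw [e, two_mul, pow_add]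
      exact EntryMem.mul (EntryMem.mul_right hclose') hclose'
    obtain ⟨a, b, ha, hb, hy⟩ := hc n (by omega) Δ hclose' hlin
    refine ⟨((1 - a) * U, V * (1 - b)), ⟨?_, ?_, ?_⟩, ?_, ?_⟩
    · show EntryMem I ((1 - a) * U - 1)
      rw [show (1 - a) * U - 1 = (U - 1) - a * U by rw [Matrix.sub_mul, Matrix.one_mul]; abel]
      exact hU.sub (EntryMem.mul_right (ha.mono (Ideal.pow_le_self (by omega))))
    · show EntryMem I (V * (1 - b) - 1)
      rw [show V * (1 - b) - 1 = (V - 1) - V * b by rw [Matrix.mul_sub, Matrix.mul_one]; abel]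
      exact hV.sub (EntryMem.mul_left (hb.mono (Ideal.pow_le_self (by omega))))
    · show EntryMem (I ^ (2 * c + 1 + (k + 1))) ((1 - a) * U * φ'' * (V * (1 - b)) - φ)
      have e : (1 - a) * U * φ'' * (V * (1 - b)) - φ =
          (Δ - (a * φ + φ * b)) - a * Δ - Δ * b + a * φk * b := by
        rw [show (1 - a) * U * φ'' * (V * (1 - b)) = (1 - a) * φk * (1 - b) by
          simp only [φk, Matrix.mul_assoc]]
        simp only [Δ, Matrix.sub_mul, Matrix.mul_sub, Matrix.one_mul, Matrix.mul_one]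
        abel
      rw [e]
      refine ((EntryMem.sub (EntryMem.sub ?_ ?_) ?_).add ?_)
      · exact hy.mono (Ideal.pow_le_pow_right (by omega))
      · exact (ha.mul hclose').mono (by rw [← pow_add]; exact Ideal.pow_le_pow_right (by omega))
      · exact (EntryMem.mul hclose' hb).mono
          (by rw [← pow_add]; exact Ideal.pow_le_pow_right (by omega))
      · exact ((EntryMem.mul_right ha).mul hb).mono
          (by rw [← pow_add]; exact Ideal.pow_le_pow_right (by omega))
    · show EntryMem _ ((1 - a) * U - U)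
      rw [show (1 - a) * U - U = -(a * U) by rw [Matrix.sub_mul, Matrix.one_mul]; abel]
      exact (EntryMem.mul_right (ha.mono (Ideal.pow_le_pow_right (by omega)))).neg
    · show EntryMem _ (V * (1 - b) - V)
      rw [show V * (1 - b) - V = -(V * b) by rw [Matrix.mul_sub, Matrix.mul_one]; abel]
      exact (EntryMem.mul_left (hb.mono (Ideal.pow_le_pow_right (by omega)))).neg
  choose! next hnext using hstep
  let seq : ℕ → Matrix (Fin p) (Fin p) R × Matrix (Fin q) (Fin q) R := fun k =>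
    Nat.rec (1, 1) (fun k UV => next k UV) k
  have hseq : ∀ k, St k (seq k) := fun k => by
    induction k with
    | zero => exact h0
    | succ k ih => exact (hnext k _ ih).1
  have hlim : ∀ (d : ℕ) (F : ℕ → Matrix (Fin d) (Fin d) R),
      (∀ k, EntryMem (I ^ (k + 1)) (F (k + 1) - F k)) →
      ∃ L, ∀ k, EntryMem (I ^ k) (F k - L) := by
    intro d F hF
    have hcauchy : ∀ (i j : Fin d) {m n : ℕ}, m ≤ n →
        F m i j ≡ F n i j [SMOD (I ^ m • ⊤ : Submodule R R)] := by
      intro i j m n hmn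
      induction hmn with
      | refl => rfl
      | @step n hmn ih =>
        refine ih.trans ?_
        rw [SModEq.sub_mem, smul_eq_mul, Ideal.mul_top, ← neg_sub]
        exact (I ^ m).neg_mem (Ideal.pow_le_pow_right (by exact Nat.le_succ_of_le hmn) (hF n i j))
    choose L hL using fun i j => IsPrecomplete.prec' (fun k => F k i j) (@hcauchy i j)
    refine ⟨Matrix.of L, fun k i j => ?_⟩
    have := hL i j k
    rwa [SModEq.sub_mem, smul_eq_mul, Ideal.mul_top] at this
  obtain ⟨U, hU⟩ := hlim p (fun k => (seq k).1) fun k => (hnext k _ (hseq k)).2.1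
  obtain ⟨V, hV⟩ := hlim q (fun k => (seq k).2) fun k => (hnext k _ (hseq k)).2.2
  refine ⟨U, V, isUnit_of_sub_one_mem I ?_, isUnit_of_sub_one_mem I ?_, ?_⟩
  · have := (hseq 1).1.sub ((hU 1).mono (pow_one I).le)
    convert this using 1; abel
  · have := (hseq 1).2.1.sub ((hV 1).mono (pow_one I).le)
    convert this using 1; abel
  · rw [← sub_eq_zero]
    ext i j
    refine IsHausdorff.haus' (I := I) _ fun k => ?_
    rw [SModEq.sub_mem, sub_zero, smul_eq_mul, Ideal.mul_top]
    have e : φ - U * φ'' * V = ((seq k).1 - U) * φ'' * (seq k).2 + U * φ'' * ((seq k).2 - V) -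
        ((seq k).1 * φ'' * (seq k).2 - φ) := by
      simp only [Matrix.sub_mul, Matrix.mul_sub]
      abel
    have hk : EntryMem (I ^ k) (φ - U * φ'' * V) := by
      rw [e]
      exact ((EntryMem.mul_right (EntryMem.mul_right (hU k))).add (EntryMem.mul_left (hV k))).sub
        ((hseq k).2.2.mono (Ideal.pow_le_pow_right (by omega)))
    exact hk i j

end Groth.Agent.ParaFormal.Elkik
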