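import Groth.Agent.ParaFormal.Elkik.Approx
import Mathlib

/-!
# The algebra of regular matrices `φ ψᵢ φ = fᵢ φ` lifts along thickenings where some `fᵢ` generate a unit
-/

set_option autoImplicit false
set_option maxHeartbeats 800000

universe u

namespace Groth.Agent.ParaFormal.Elkik

open Matrix

/-- Entrywise congruence lemma: a product of two matrices with entries in a square-zero ideal is zero. -/
theorem mul_eq_zero_of_map_mk {R : Type u} [CommRing R] {N : Ideal R} (hN : N ^ 2 = ⊥)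
    {a b c : Type*} [Fintype b] {X : Matrix a b R} {Y : Matrix b c R}
    (hX : X.map (Ideal.Quotient.mk N) = 0) (hY : Y.map (Ideal.Quotient.mk N) = 0) : X * Y = 0 := by
  ext i j
  rw [Matrix.mul_apply, Matrix.zero_apply]
  refine Finset.sum_eq_zero fun k _ => ?_
  have h1 : X i k ∈ N := Ideal.Quotient.eq_zero_iff_mem.1 (congrFun (congrFun hX i) k)
  have h2 : Y k j ∈ N := Ideal.Quotient.eq_zero_iff_mem.1 (congrFun (congrFun hY k) j)
  have : X i k * Y k j ∈ N ^ 2 := by rw [sq]; exact Ideal.mul_mem_mul h1 h2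
  rwa [hN, Submodule.mem_bot] at this

/-- `3x² - 2x³` makes a square-zero almost-idempotent idempotent. -/
theorem isIdempotentElem_three_two {S : Type*} [Ring S] (x : S) (hx : (x * x - x) * (x * x - x) = 0) :
    IsIdempotentElem (3 * (x * x) - 2 * (x * x * x)) := by
  unfold IsIdempotentElem
  have key : (3 * (x * x) - 2 * (x * x * x)) * (3 * (x * x) - 2 * (x * x * x)) - (3 * (x * x) - 2 * (x * x * x)) =
      (x * x - x) * (x * x - x) * (4 * (x * x) - 4 * x - 3) := by
    noncomm_ring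
  rw [hx, zero_mul, sub_eq_zero] at key
  exact key

/-- Lifting a regular pair of matrices along a square-zero ideal. -/
theorem exists_regular_lift {R : Type u} [CommRing R] {N : Ideal R} (hN : N ^ 2 = ⊥)
    {p q s : ℕ} (f c : Fin s → R) (hu : IsUnit (∑ i, c i * f i))
    (φ₁ : Matrix (Fin p) (Fin q) R) (ψ₁ : Fin s → Matrix (Fin q) (Fin p) R)
    (h : ∀ i, (φ₁ * ψ₁ i * φ₁ - f i • φ₁).map (Ideal.Quotient.mk N) = 0) :
    ∃ (φ : Matrix (Fin p) (Fin q) R) (ψ : Fin s → Matrix (Fin q) (Fin p) R),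
      φ.map (Ideal.Quotient.mk N) = φ₁.map (Ideal.Quotient.mk N) ∧
      (∀ i, (ψ i).map (Ideal.Quotient.mk N) = (ψ₁ i).map (Ideal.Quotient.mk N)) ∧
      ∀ i, φ * ψ i * φ = f i • φ := by
  classical
  let π := Ideal.Quotient.mk N
  have hsub : ∀ {a b : Type} (X Y : Matrix a b R), (X - Y).map π = X.map π - Y.map π :=
    fun X Y => Matrix.map_sub _ (map_sub π) X Y
  obtain ⟨u, hu⟩ := hu
  let g₁ : Matrix (Fin q) (Fin p) R := (↑u⁻¹ : R) • ∑ i, c i • ψ₁ i
  have hg₁ : (φ₁ * g₁ * φ₁).map π = φ₁.map π := by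
    have e : φ₁ * g₁ * φ₁ - φ₁ = (↑u⁻¹ : R) • ∑ i, c i • (φ₁ * ψ₁ i * φ₁ - f i • φ₁) := by
      simp only [g₁, Matrix.mul_smul, Matrix.smul_mul, Matrix.mul_sum, Matrix.sum_mul, smul_sub,
        Finset.sum_sub_distrib, smul_smul, ← Finset.sum_smul, ← hu, Units.inv_mul, one_smul]
    rw [← sub_eq_zero, ← hsub, e]
    ext a b
    simp only [Matrix.map_apply, Matrix.smul_apply, Matrix.sum_apply, map_mul, smul_eq_mul,
      map_sum, Matrix.zero_apply]
    refine mul_eq_zero_of_right _ (Finset.sum_eq_zero fun i _ => ?_)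
    have := congrFun (congrFun (h i) a) b
    simp only [Matrix.map_apply, Matrix.zero_apply] at this
    rw [this, mul_zero]
  let e₀ := φ₁ * g₁
  have he₀ : (e₀ * e₀ - e₀).map π = 0 := by
    rw [hsub, show e₀ * e₀ = φ₁ * g₁ * φ₁ * g₁ by simp only [e₀, Matrix.mul_assoc], Matrix.map_mul,
      hg₁, ← Matrix.map_mul, sub_self]
  let E := 3 * (e₀ * e₀) - 2 * (e₀ * e₀ * e₀)
  have hE : E * E = E := isIdempotentElem_three_two e₀ (mul_eq_zero_of_map_mk hN he₀ he₀)
  have hEπ : E.map π = e₀.map π := by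
    have e : E - e₀ = (e₀ * e₀ - e₀) * (1 - 2 * e₀) := by
      simp only [E]; noncomm_ring
    rw [← sub_eq_zero, ← hsub, e, Matrix.map_mul, he₀, zero_mul]
  let φ := E * φ₁
  have hφπ : φ.map π = φ₁.map π := by
    simp only [φ, Matrix.map_mul, hEπ, e₀]
    rw [← Matrix.map_mul, ← Matrix.map_mul, hg₁]
  have hEφ : E * φ = φ := by simp only [φ, ← Matrix.mul_assoc, hE]
  let n := φ * g₁ - E
  have hn : n.map π = 0 := by
    rw [hsub, Matrix.map_mul, hφπ, hEπ, ← Matrix.map_mul, sub_self]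
  have hEn : E * n = n := by simp only [n, mul_sub, ← Matrix.mul_assoc, hEφ, hE]
  let g := g₁ * (E - n * E)
  have hnn : n * n = 0 := mul_eq_zero_of_map_mk hN hn hn
  have hgen : φ * g * φ = φ := by
    have e1 : φ * g₁ = E + n := by simp only [n]; abel
    calc φ * g * φ = (φ * g₁) * (E - n * E) * φ := by simp only [g, Matrix.mul_assoc]
      _ = ((E + n) * (E - n * E)) * φ := by rw [e1]
      _ = (E * E - E * n * E + n * E - n * n * E) * φ := by noncomm_ring
      _ = φ := by rw [hE, hEn, hnn, zero_mul, sub_zero, sub_add_cancel, hEφ]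
  let ψ : Fin s → Matrix (Fin q) (Fin p) R := fun i => ψ₁ i - g * (φ * ψ₁ i * φ - f i • φ) * g
  refine ⟨φ, ψ, hφπ, fun i => ?_, fun i => ?_⟩
  · have h0 : (φ * ψ₁ i * φ - f i • φ).map π = 0 := by
      have h1 := h i
      have hs : ∀ X : Matrix (Fin p) (Fin q) R, (f i • X).map π = π (f i) • X.map π := fun X => by
        ext a b; simp
      rw [hsub, Matrix.map_mul, Matrix.map_mul, hs] at h1 ⊢
      rw [hφπ]; exact h1
    simp only [ψ]
    rw [hsub, Matrix.map_mul, Matrix.map_mul, h0, Matrix.mul_zero, Matrix.zero_mul, sub_zero]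
  · have e2 : φ * (g * (φ * ψ₁ i * φ - f i • φ) * g) * φ = φ * ψ₁ i * φ - f i • φ := by
      calc φ * (g * (φ * ψ₁ i * φ - f i • φ) * g) * φ
          = (φ * g * φ) * ψ₁ i * (φ * g * φ) - f i • ((φ * g * φ) * g * φ) := by
            simp only [Matrix.mul_sub, Matrix.sub_mul, Matrix.mul_smul, Matrix.smul_mul, Matrix.mul_assoc]
        _ = φ * ψ₁ i * φ - f i • φ := by rw [hgen, hgen]
    simp only [ψ, Matrix.mul_sub, Matrix.sub_mul]
    simp only [Matrix.mul_sub, Matrix.sub_mul] at e2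
    rw [e2]
    abel

/-- The variables of the universal regular pair. -/
abbrev Vars (p q s : ℕ) : Type := (Fin p × Fin q) ⊕ (Fin s × Fin q × Fin p)

section

variable {B : Type u} [CommRing B] (p q : ℕ) {s : ℕ} (f : Fin s → B)

open MvPolynomial

/-- The universal `φ` before imposing the equations. -/
noncomputable def phiX : Matrix (Fin p) (Fin q) (MvPolynomial (Vars p q s) B) :=
  Matrix.of fun a b => X (Sum.inl (a, b))

/-- The universal `ψ` before imposing the equations. -/
noncomputable def psiX (i : Fin s) : Matrix (Fin q) (Fin p) (MvPolynomial (Vars p q s) B) :=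
  Matrix.of fun a b => X (Sum.inr (i, a, b))

/-- The matrices `φ ψᵢ φ - fᵢ φ`. -/
noncomputable def relX (i : Fin s) : Matrix (Fin p) (Fin q) (MvPolynomial (Vars p q s) B) :=
  phiX (B := B) (s := s) p q * psiX (B := B) p q i * phiX (B := B) (s := s) p q -
    (C (f i) : MvPolynomial (Vars p q s) B) • phiX (B := B) (s := s) p q

/-- The equations `φ ψᵢ φ = fᵢ φ`. -/
noncomputable def eqIdeal : Ideal (MvPolynomial (Vars p q s) B) :=
  Ideal.span (Set.range fun x : Fin s × Fin p × Fin q =>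
    relX p q f x.1 x.2.1 x.2.2)

/-- The universal algebra of regular pairs. -/
abbrev EqAlg : Type u := MvPolynomial (Vars p q s) B ⧸ eqIdeal p q f

instance : Algebra.FinitePresentation B (EqAlg p q f) :=
  Algebra.FinitePresentation.quotient (Submodule.fg_span (Set.finite_range _))

/-- The universal `φ`. -/
noncomputable def phiC : Matrix (Fin p) (Fin q) (EqAlg p q f) := (phiX p q).map (Ideal.Quotient.mk _)

/-- The universal `ψ`. -/
noncomputable def psiC (i : Fin s) : Matrix (Fin q) (Fin p) (EqAlg p q f) :=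
  (psiX p q i).map (Ideal.Quotient.mk _)

theorem eqAlg_rel (i : Fin s) :
    phiC p q f * psiC p q f i * phiC p q f = algebraMap B (EqAlg p q f) (f i) • phiC p q f := by
  rw [← sub_eq_zero]
  ext a b
  have hm : relX p q f i a b ∈ eqIdeal p q f :=
    Ideal.subset_span ⟨(i, a, b), rfl⟩
  rw [← Ideal.Quotient.eq_zero_iff_mem] at hm
  rw [Matrix.zero_apply, ← hm, relX, Matrix.sub_apply, Matrix.sub_apply, map_sub]
  congr 1
  simp only [phiC, psiC, ← Matrix.map_mul, Matrix.map_apply]

variable {p q f}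

theorem map_rel {R : Type u} [CommRing R] [Algebra B R] (g : EqAlg p q f →ₐ[B] R) (i : Fin s) :
    (phiC p q f).map g * (psiC p q f i).map g * (phiC p q f).map g =
      algebraMap B R (f i) • (phiC p q f).map g := by
  rw [← Matrix.map_mul, ← Matrix.map_mul, eqAlg_rel]
  ext a b
  simp [Algebra.smul_def]

theorem exists_hom {R : Type u} [CommRing R] [Algebra B R] (φ : Matrix (Fin p) (Fin q) R)
    (ψ : Fin s → Matrix (Fin q) (Fin p) R)
    (h : ∀ i, φ * ψ i * φ = algebraMap B R (f i) • φ) :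
    ∃ g : EqAlg p q f →ₐ[B] R, (phiC p q f).map g = φ ∧ ∀ i, (psiC p q f i).map g = ψ i := by
  let ev : MvPolynomial (Vars p q s) B →ₐ[B] R :=
    aeval (Sum.elim (fun x => φ x.1 x.2) (fun x => ψ x.1 x.2.1 x.2.2))
  have hφ : (phiX p q).map ev = φ := by ext a b; simp [ev, phiX]
  have hψ : ∀ i, (psiX p q i).map ev = ψ i := fun i => by ext a b; simp [ev, psiX]
  have hk : eqIdeal p q f ≤ RingHom.ker ev := by
    rw [eqIdeal, Ideal.span_le]
    rintro _ ⟨⟨i, a, b⟩, rfl⟩
    have e : (phiX (B := B) (s := s) p q * psiX (B := B) p q i * phiX (B := B) (s := s) p q).map ev = φ * ψ i * φ := by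
      rw [Matrix.map_mul, Matrix.map_mul, hφ, hψ]
    have e' := congrFun (congrFun e a) b
    rw [h i, Matrix.map_apply] at e'
    simp only [SetLike.mem_coe, RingHom.mem_ker, relX, Matrix.sub_apply, map_sub, sub_eq_zero, e']
    rw [← hφ]
    simp [ev]
  refine ⟨Ideal.Quotient.liftₐ _ ev hk, ?_, fun i => ?_⟩
  · rw [← hφ]; ext a b; rfl
  · rw [← hψ i]; ext a b; rfl

theorem hom_ext {R : Type u} [CommRing R] [Algebra B R] {g g' : EqAlg p q f →ₐ[B] R}
    (h1 : (phiC p q f).map g = (phiC p q f).map g')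
    (h2 : ∀ i, (psiC p q f i).map g = (psiC p q f i).map g') : g = g' := by
  apply Ideal.Quotient.algHom_ext B
  apply MvPolynomial.algHom_ext
  rintro (⟨a, b⟩ | ⟨i, a, b⟩)
  · exact congrFun (congrFun h1 a) b
  · exact congrFun (congrFun (h2 i) a) b

variable (p q f)

/-- Lifting along square-zero ideals where some element of `(f₁,…,fₛ)`'s radical is a unit. -/
theorem liftsAway_eqAlg {t : B} (ht : t ∈ (Ideal.span (Set.range f)).radical) :
    LiftsAway B (EqAlg p q f) t := by
  intro R _ _ N hN hu g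
  obtain ⟨k, hk⟩ := ht
  obtain ⟨c, hc⟩ := Ideal.mem_span_range_iff_exists_fun.1 hk
  have hu' : IsUnit (∑ i, algebraMap B R (c i) * algebraMap B R (f i)) := by
    simp only [← map_mul, ← map_sum, hc, map_pow]
    exact hu.pow k
  choose φ₁ hφ₁ using fun a b => Ideal.Quotient.mk_surjective (g (phiC p q f a b))
  choose ψ₁ hψ₁ using fun i a b => Ideal.Quotient.mk_surjective (g (psiC p q f i a b))
  have e1 : (Matrix.of φ₁).map (Ideal.Quotient.mk N) = (phiC p q f).map g := by
    ext a b; exact hφ₁ a b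
  have e2 : ∀ i, (Matrix.of (ψ₁ i)).map (Ideal.Quotient.mk N) = (psiC p q f i).map g := by
    intro i; ext a b; exact hψ₁ i a b
  obtain ⟨φ, ψ, hφ, hψ, hrel⟩ := exists_regular_lift hN (fun i => algebraMap B R (f i))
    (fun i => algebraMap B R (c i)) hu' (Matrix.of φ₁) (fun i => Matrix.of (ψ₁ i)) fun i => by
      rw [Matrix.map_sub _ (map_sub _), Matrix.map_mul, Matrix.map_mul, e1, e2, map_rel g i,
        sub_eq_zero]
      ext a b
      simp only [Matrix.map_apply, Matrix.smul_apply, smul_eq_mul, map_mul, Matrix.of_apply, hφ₁]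
      rfl
  obtain ⟨g', hg1, hg2⟩ := exists_hom φ ψ hrel
  refine ⟨g', hom_ext ?_ fun i => ?_⟩
  · rw [← e1, ← hφ, ← hg1, Matrix.map_map]; rfl
  · rw [← e2 i, ← hψ i, ← hg2 i, Matrix.map_map]; rfl

end

end Groth.Agent.ParaFormal.Elkik
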