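import Groth.Agent.ParaFormal.Elkik.Descent

/-!
# Surjectivity of `H¹(U, GLₙ)` along analytic isomorphisms of henselian pairs
-/

set_option autoImplicit false
set_option maxHeartbeats 1000000
set_option backward.isDefEq.respectTransparency.types false

universe u

open CategoryTheory AlgebraicGeometry
open scoped TensorProduct

namespace Groth.Agent.ParaFormal.Elkik

/-- Freeness of rank `n` passes along a factorisation `R → S → T`. -/
theorem baseChange_rank {R S T : Type u} [CommRing R] [CommRing S] [CommRing T]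
    [Algebra R S] [Algebra R T] [Algebra S T] [IsScalarTower R S T]
    (M : Type u) [AddCommGroup M] [Module R M] {n : ℕ} (e : S ⊗[R] M ≃ₗ[S] (Fin n → S)) :
    Nonempty (T ⊗[R] M ≃ₗ[T] (Fin n → T)) :=
  ⟨(TensorProduct.AlgebraTensorModule.cancelBaseChange R S T T M).symm.trans
    ((TensorProduct.AlgebraTensorModule.congr (LinearEquiv.refl T T) e).trans
      (TensorProduct.piScalarRight S T T (Fin n)))⟩

/-- Rank `n` at the primes from rank `n` on a basic neighbourhood, after base change. -/
theorem nonempty_atPrime_equiv {R S : Type u} [CommRing R] [CommRing S] [Algebra R S]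
    (M : Type u) [AddCommGroup M] [Module R M] {n : ℕ} (p : Ideal S) [p.IsPrime] {a : R}
    (ha : algebraMap R S a ∉ p)
    (e : Localization.Away a ⊗[R] M ≃ₗ[Localization.Away a] (Fin n → Localization.Away a)) :
    Nonempty (Localization.AtPrime p ⊗[R] M ≃ₗ[Localization.AtPrime p] (Fin n → Localization.AtPrime p)) := by
  let f := (algebraMap S (Localization.AtPrime p)).comp (algebraMap R S)
  have hu : IsUnit (f a) := IsLocalization.map_units (Localization.AtPrime p) (⟨_, ha⟩ : p.primeCompl)
  letI : Algebra (Localization.Away a) (Localization.AtPrime p) :=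
    (IsLocalization.Away.lift a (g := f) hu).toAlgebra
  haveI : IsScalarTower R (Localization.Away a) (Localization.AtPrime p) :=
    IsScalarTower.of_algebraMap_eq fun r =>
      (IsScalarTower.algebraMap_apply R S (Localization.AtPrime p) r).trans (IsLocalization.Away.lift_eq a hu r).symm
  exact baseChange_rank M e

/-- A finite module with `R_p ⊗ M ≅ R_pⁿ` is free at `p`. -/
theorem free_atPrime {R : Type u} [CommRing R] (M : Type u) [AddCommGroup M] [Module R M] {n : ℕ}
    (p : Ideal R) [p.IsPrime]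
    (e : Localization.AtPrime p ⊗[R] M ≃ₗ[Localization.AtPrime p] (Fin n → Localization.AtPrime p)) :
    Module.Free (Localization.AtPrime p) (LocalizedModule p.primeCompl M) :=
  Module.Free.of_equiv ((LocalizedModule.equivTensorProduct p.primeCompl M).trans e).symm

/-- A finitely presented module of rank `n` at `q` is free of rank `n` near `q`. -/
theorem exists_away_of_rank {R : Type u} [CommRing R] (M : Type u) [AddCommGroup M] [Module R M]
    [Module.FinitePresentation R M] {n : ℕ} {q : Ideal R} [q.IsPrime]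
    (hf : Module.Free (Localization.AtPrime q) (LocalizedModule q.primeCompl M))
    (hr : Module.finrank (Localization.AtPrime q) (LocalizedModule q.primeCompl M) = n) :
    ∃ a ∉ q, Nonempty (Localization.Away a ⊗[R] M ≃ₗ[Localization.Away a] (Fin n → Localization.Away a)) := by
  haveI := hf
  obtain ⟨r, hr', hfree, hrank⟩ := Module.FinitePresentation.exists_free_localizedModule_powers
    q.primeCompl (LocalizedModule.mkLinearMap q.primeCompl M) (Localization.AtPrime q)
  haveI := hfree
  haveI : Nontrivial (Localization.Away r) :=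
    RingHom.domain_nontrivial (IsLocalization.Away.lift r (g := algebraMap R (Localization.AtPrime q))
      (IsLocalization.map_units (Localization.AtPrime q) (⟨r, hr'⟩ : q.primeCompl)))
  refine ⟨r, hr', ⟨(LocalizedModule.equivTensorProduct (Submonoid.powers r) M).symm.trans
    (LinearEquiv.ofFinrankEq _ _ ?_)⟩⟩
  rw [hrank, Module.finrank_fin_fun, hr]

/-- The module statement. -/
theorem exists_module_descent (A A' : Type u) [CommRing A] [CommRing A'] [IsNoetherianRing A]
    [IsNoetherianRing A'] [Algebra A A'] (J : Ideal A) [HenselianRing A J]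
    [HenselianRing A' (J.map (algebraMap A A'))]
    (hq : ∀ n : ℕ, Function.Bijective (Ideal.quotientMap (Ideal.map (algebraMap A A') (J ^ n)) (algebraMap A A')
      Ideal.le_comap_map))
    (JU : Ideal A) (hJU : J ≤ JU) {n : ℕ} (N : Type u) [AddCommGroup N] [Module A' N] [Module.Finite A' N]
    (hN : ∀ (P : Ideal A') [P.IsPrime], ¬ JU.map (algebraMap A A') ≤ P →
      ∃ a ∉ P, Nonempty (Localization.Away a ⊗[A'] N ≃ₗ[Localization.Away a] (Fin n → Localization.Away a))) :
    ∃ (M : Type u) (_ : AddCommGroup M) (_ : Module A M), Module.FinitePresentation A M ∧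
      (∀ (q : Ideal A) [q.IsPrime], ¬ JU ≤ q →
        ∃ a ∉ q, Nonempty (Localization.Away a ⊗[A] M ≃ₗ[Localization.Away a] (Fin n → Localization.Away a))) ∧
      Nonempty (A' ⊗[A] M ≃ₗ[A'] N) := by
  let J' := J.map (algebraMap A A')
  let Ah := AdicCompletion J A
  let Ch := AdicCompletion J' A'
  haveI : IsNoetherianRing Ah := RegLoc.Completion.isNoetherianRing_adicCompletion' J
  haveI hff' : Module.FaithfullyFlat A' Ch := faithfullyFlat_completion J' HenselianRing.jac
  haveI hff : Module.FaithfullyFlat A Ah := faithfullyFlat_completion J HenselianRing.jac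
  have hJC : J.map (algebraMap A Ch) = J'.map (algebraMap A' Ch) := by
    rw [Ideal.map_map, ← IsScalarTower.algebraMap_eq]
  haveI : IsAdicComplete (J.map (algebraMap A Ch)) Ch := by
    rw [hJC]; exact AdicCompletion.isAdicComplete_self J' (IsNoetherian.noetherian _)
  have hk : ∀ k, (J ^ k).map (algebraMap A Ch) = RingHom.ker (AdicCompletion.evalₐ J' k) := fun k => by
    rw [ker_evalₐ J' (IsNoetherian.noetherian _) k, Ideal.map_pow, hJC]
  have hsurj : ∀ (k : ℕ) (c : Ch), ∃ a, c - algebraMap A Ch a ∈ (J ^ k).map (algebraMap A Ch) := fun k c => by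
    obtain ⟨b, hb⟩ := Ideal.Quotient.mk_surjective (AdicCompletion.evalₐ J' k c)
    obtain ⟨x, hx⟩ := (hq k).2 (Ideal.Quotient.mk _ b)
    obtain ⟨a, rfl⟩ := Ideal.Quotient.mk_surjective x
    refine ⟨a, ?_⟩
    rw [hk, RingHom.mem_ker, map_sub, sub_eq_zero, ← hb,
      IsScalarTower.algebraMap_apply A A' Ch, AlgHom.commutes, Ideal.Quotient.algebraMap_eq, eq_comm,
      Ideal.Quotient.eq, ← Ideal.map_pow]
    exact Ideal.Quotient.eq.1 hx
  have hinj : ∀ k, ((J ^ k).map (algebraMap A Ch)).comap (algebraMap A Ch) ≤ J ^ k := fun k a ha => by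
    rw [Ideal.mem_comap, hk, RingHom.mem_ker, IsScalarTower.algebraMap_apply A A' Ch, AlgHom.commutes,
      Ideal.Quotient.algebraMap_eq, Ideal.Quotient.eq_zero_iff_mem, ← Ideal.map_pow] at ha
    rw [← Ideal.Quotient.eq_zero_iff_mem]
    refine (hq k).1 ?_
    rw [map_zero, Ideal.quotientMap_mk, Ideal.Quotient.eq_zero_iff_mem]
    exact ha
  obtain ⟨θ⟩ := Hensel.nonempty_completion_equiv J Ch hsurj hinj
  letI : Algebra Ah Ch := θ.toRingHom.toAlgebra
  haveI : IsScalarTower A Ah Ch := IsScalarTower.of_algebraMap_eq fun a => (θ.commutes a).symm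
  letI : Algebra A' Ah := (θ.symm.toRingHom.comp (algebraMap A' Ch)).toAlgebra
  haveI : IsScalarTower A A' Ah := IsScalarTower.of_algebraMap_eq fun a => by
    show _ = θ.symm (algebraMap A' Ch (algebraMap A A' a))
    rw [← IsScalarTower.algebraMap_apply A A' Ch, θ.symm.commutes]
  haveI : IsScalarTower A' Ah Ch := IsScalarTower.of_algebraMap_eq fun a =>
    (θ.apply_symm_apply (algebraMap A' Ch a)).symm
  have hbar : ∀ (p : Ideal Ah) [p.IsPrime], ¬ JU.map (algebraMap A Ah) ≤ p →
      Nonempty (Localization.AtPrime p ⊗[Ah] (Ah ⊗[A'] N) ≃ₗ[Localization.AtPrime p]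
        (Fin n → Localization.AtPrime p)) := by
    intro p _ hp
    obtain ⟨a, ha, ⟨e⟩⟩ := hN (p.comap (algebraMap A' Ah)) fun h => hp (by
      rw [IsScalarTower.algebraMap_eq A A' Ah, ← Ideal.map_map]
      exact Ideal.map_le_iff_le_comap.2 h)
    obtain ⟨e'⟩ := nonempty_atPrime_equiv N p ha e
    exact ⟨(TensorProduct.AlgebraTensorModule.cancelBaseChange A' Ah _ _ N).trans e'⟩
  obtain ⟨M, _, _, _, _, hMfree, ⟨eM⟩⟩ := exists_algebraisation A A J J (by rw [Algebra.algebraMap_self, Ideal.map_id])
    JU hJU (Ah ⊗[A'] N) fun p _ hp => free_atPrime _ p (hbar p hp).some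
  refine ⟨M, inferInstance, inferInstance, inferInstance, fun q _ hq' => ?_, ?_⟩
  · refine exists_away_of_rank M (hMfree q hq') ?_
    obtain ⟨x, hx⟩ := PrimeSpectrum.comap_surjective_of_faithfullyFlat (A := A) (B := Ah) ⟨q, inferInstance⟩
    have hx' : x.asIdeal.comap (algebraMap A Ah) = q := congrArg PrimeSpectrum.asIdeal hx
    subst hx'
    let := Localization.AtPrime.algebraOfLiesOver (x.asIdeal.comap (algebraMap A Ah)) x.asIdeal
    haveI := hMfree _ hq'
    obtain ⟨e⟩ := hbar x.asIdeal fun h => hq' (Ideal.map_le_iff_le_comap.1 h)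
    let e' := ((TensorProduct.AlgebraTensorModule.congr (LinearEquiv.refl _ _)
        (LocalizedModule.equivTensorProduct (x.asIdeal.comap (algebraMap A Ah)).primeCompl M)).trans
      ((TensorProduct.AlgebraTensorModule.cancelBaseChange A (Localization.AtPrime (x.asIdeal.comap (algebraMap A Ah))) _ _ M).trans
        ((TensorProduct.AlgebraTensorModule.cancelBaseChange A Ah (Localization.AtPrime x.asIdeal) _ M).symm.trans
          (TensorProduct.AlgebraTensorModule.congr (LinearEquiv.refl _ _) eM)))).trans e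
    rw [← Module.finrank_baseChange (R := Localization.AtPrime x.asIdeal)
      (S := Localization.AtPrime (x.asIdeal.comap (algebraMap A Ah)))
      (M' := LocalizedModule (x.asIdeal.comap (algebraMap A Ah)).primeCompl M), e'.finrank_eq, Module.finrank_fin_fun]
  · refine nonempty_linearEquiv_of_completion J' HenselianRing.jac Ch (fun c => ?_)
      ((TensorProduct.AlgebraTensorModule.cancelBaseChange A A' Ch Ch M).trans
        ((TensorProduct.AlgebraTensorModule.cancelBaseChange A Ah Ch Ch M).symm.trans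
          ((TensorProduct.AlgebraTensorModule.congr (LinearEquiv.refl _ _) eM).trans
            (TensorProduct.AlgebraTensorModule.cancelBaseChange A' Ah Ch Ch N))))
    obtain ⟨a, ha⟩ := hsurj 1 c
    refine ⟨algebraMap A A' a, ?_⟩
    rw [← IsScalarTower.algebraMap_apply A A' Ch, ← hJC, ← pow_one J]
    exact ha

/-- The sheaf statement from the module statement. -/
theorem exists_vectorBundle_descent {A A' : Type u} [CommRing A] [CommRing A'] [IsNoetherianRing A']
    [Algebra A A'] (JU : Ideal A) {n : ℕ}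
    (U : (Spec (CommRingCat.of A)).Opens)
    (hU : ∀ q : ↥(Spec (CommRingCat.of A)), q ∈ U ↔ ¬ JU ≤ q.asIdeal)
    (hmod : ∀ (N : Type u) [AddCommGroup N] [Module A' N] [Module.Finite A' N],
      (∀ (P : Ideal A') [P.IsPrime], ¬ JU.map (algebraMap A A') ≤ P →
        ∃ a ∉ P, Nonempty (Localization.Away a ⊗[A'] N ≃ₗ[Localization.Away a] (Fin n → Localization.Away a))) →
      ∃ (M : Type u) (_ : AddCommGroup M) (_ : Module A M), Module.FinitePresentation A M ∧
        (∀ (q : Ideal A) [q.IsPrime], ¬ JU ≤ q →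
          ∃ a ∉ q, Nonempty (Localization.Away a ⊗[A] M ≃ₗ[Localization.Away a] (Fin n → Localization.Away a))) ∧
        Nonempty (A' ⊗[A] M ≃ₗ[A'] N))
    (E' : (↑((Spec.map (CommRingCat.ofHom (algebraMap A A'))) ⁻¹ᵁ U) : Scheme.{u}).Modules)
    (hE' : FlatMod.IsFinLocFreeOfRank n E') :
    ∃ E : (U : Scheme.{u}).Modules, FlatMod.IsFinLocFreeOfRank n E ∧
      Nonempty ((Scheme.Modules.pullback ((Spec.map (CommRingCat.ofHom (algebraMap A A'))) ∣_ U)).obj E ≅ E') := by
  let π := Spec.map (CommRingCat.ofHom (algebraMap A A'))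
  let P := π ⁻¹ᵁ U
  obtain ⟨N, _, _, _, ⟨ν⟩⟩ := exists_module_of_isFinLocFree P E' hE'
  obtain ⟨M, _, _, _, hM, ⟨eM⟩⟩ := hmod N fun p _ hp =>
    exists_away_of_isFinLocFree_restrict (R := A') N (RankLocus.isFinLocFreeOfRank_of_iso ν.symm hE')
      ⟨p, inferInstance⟩ ((hU ⟨p.comap (algebraMap A A'), inferInstance⟩).2 fun h => hp (Ideal.map_le_iff_le_comap.2 h))
  obtain ⟨φ⟩ := nonempty_pullback_algebraMap' M N eM
  let T : (Spec (CommRingCat.of A)).Modules := tilde (R := CommRingCat.of A) (ModuleCat.of A M)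
  have hT : FlatMod.IsFinLocFreeOfRank n (T.restrict U.ι) := by
    refine isFinLocFreeOfRank_of_local fun y => ?_
    obtain ⟨a, ha, ⟨e⟩⟩ := hM y.1.asIdeal ((hU y.1).1 y.2)
    let D : (Spec (CommRingCat.of A)).Opens := Dop a
    refine ⟨U.ι ⁻¹ᵁ D, ha, ?_⟩
    refine RankLocus.isFinLocFreeOfRank_of_iso ?_
      (isFinLocFreeOfRank_pullback (U.ι ∣_ D) (isFinLocFree_restrict_tilde M a e))
    exact (PicCl.restrictPullbackIso U.ι D T).symm ≪≫
      (Scheme.Modules.restrictFunctor (U.ι ⁻¹ᵁ D).ι).mapIso
        ((Scheme.Modules.restrictFunctorIsoPullback U.ι).app T).symm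
  exact ⟨T.restrict U.ι, hT,
    ⟨(PicCl.restrictPullbackIso π U T).symm ≪≫ (Scheme.Modules.restrictFunctor P.ι).mapIso φ ≪≫ ν⟩⟩

end Groth.Agent.ParaFormal.Elkik
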