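import Groth.Agent.ParaFormal.Elkik.Equations
import Groth.Agent.ParaFormal.Elkik.Compare
import Mathlib

/-!
# Elkik's algebraisation of modules locally free off `V(J)` over a henselian pair
-/

set_option autoImplicit false
set_option maxHeartbeats 800000

universe u

namespace Groth.Agent.ParaFormal.Elkik

open Matrix TensorProduct

/-- The cokernel of a matrix. -/
abbrev Coker {R : Type u} [CommRing R] {p q : ℕ} (φ : Matrix (Fin p) (Fin q) R) : Type u :=
  (Fin p → R) ⧸ LinearMap.range φ.mulVecLin

/-- A finite module free off `V(Jb)` has a presentation by a regular matrix. -/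
theorem exists_regular_presentation {R : Type u} [CommRing R] [IsNoetherianRing R]
    (M : Type u) [AddCommGroup M] [Module R M] [Module.Finite R M] (Jb : Ideal R)
    (hfree : ∀ (P : Ideal R) [P.IsPrime], ¬ Jb ≤ P →
      Module.Free (Localization.AtPrime P) (LocalizedModule P.primeCompl M))
    {s : ℕ} (g : Fin s → R) (hg : ∀ i, g i ∈ Jb) :
    ∃ (p q N : ℕ) (φ : Matrix (Fin p) (Fin q) R) (ψ : Fin s → Matrix (Fin q) (Fin p) R),
      (∀ i, φ * ψ i * φ = g i ^ N • φ) ∧ Nonempty (Coker φ ≃ₗ[R] M) := by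
  classical
  obtain ⟨p, π, hπ⟩ := Module.Finite.exists_fin' R M
  let 𝔞 : Ideal R := Submodule.comap (LinearMap.toSpanSingleton R (M →ₗ[R] M) LinearMap.id)
    (LinearMap.range ({ toFun := fun sec => π.comp sec
                        map_add' := fun a b => by ext; simp
                        map_smul' := fun c a => by ext; simp } : (M →ₗ[R] (Fin p → R)) →ₗ[R] (M →ₗ[R] M)))
  haveI : Module.FinitePresentation R M := Module.finitePresentation_of_finite R M
  have hrad : Jb ≤ 𝔞.radical := by
    rw [Ideal.radical_eq_sInf]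
    refine le_sInf fun P ⟨hP, hPp⟩ => ?_
    by_contra hJP
    haveI : P.IsPrime := hPp
    let S := P.primeCompl
    haveI : Module.Free (Localization.AtPrime P) (LocalizedModule S M) := hfree P hJP
    let πS : LocalizedModule S (Fin p → R) →ₗ[Localization S] LocalizedModule S M :=
      LocalizedModule.map S π
    have hπS : Function.Surjective πS := fun x => by
      induction x using LocalizedModule.induction_on with
      | h m t =>
        obtain ⟨y, rfl⟩ := hπ m
        exact ⟨LocalizedModule.mk y t, LocalizedModule.map_mk _ _ _ _⟩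
    haveI : Module.Free (Localization S) (LocalizedModule S M) := hfree P hJP
    obtain ⟨σ, hσ⟩ := Module.projective_lifting_property πS LinearMap.id hπS
    obtain ⟨h, t, ht⟩ := Module.FinitePresentation.exists_lift_of_isLocalizedModule S
      (LocalizedModule.mkLinearMap S (Fin p → R))
      ((σ.restrictScalars R).comp (LocalizedModule.mkLinearMap S M))
    have e : (LocalizedModule.mkLinearMap S M).comp (π.comp h) =
        (LocalizedModule.mkLinearMap S M).comp ((t : R) • LinearMap.id) := by
      refine LinearMap.ext fun m => ?_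
      simp only [LinearMap.comp_apply, LinearMap.smul_apply, LinearMap.id_apply, map_smul]
      have h1 : LocalizedModule.mkLinearMap S (Fin p → R) (h m) =
          (t : R) • σ (LocalizedModule.mkLinearMap S M m) := LinearMap.congr_fun ht m
      have h2 : πS (LocalizedModule.mkLinearMap S (Fin p → R) (h m)) =
          LocalizedModule.mkLinearMap S M (π (h m)) := LocalizedModule.map_mk _ _ _ _
      rw [← h2, h1, LinearMap.map_smul_of_tower]
      congr 1
      exact LinearMap.congr_fun hσ _
    obtain ⟨t', ht'⟩ := Module.Finite.exists_smul_of_comp_eq_of_isLocalizedModule S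
      (LocalizedModule.mkLinearMap S M) _ _ e
    have hmem : (t' : R) * t ∈ 𝔞 := by
      refine ⟨(t' : R) • h, LinearMap.ext fun m => ?_⟩
      have := LinearMap.congr_fun ht' m
      simp only [Submonoid.smul_def, LinearMap.smul_apply, LinearMap.comp_apply, LinearMap.id_apply] at this
      simp [LinearMap.toSpanSingleton_apply, mul_smul, this]
    exact (t' * t).2 (hP hmem)
  obtain ⟨N, hN⟩ := Ideal.exists_pow_le_of_le_radical_of_fg hrad (IsNoetherian.noetherian Jb)
  have hmem : ∀ i, ∃ sec : M →ₗ[R] (Fin p → R), π.comp sec = g i ^ N • LinearMap.id := fun i => by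
    obtain ⟨sec, hsec⟩ := hN (Ideal.pow_mem_pow (hg i) N)
    exact ⟨sec, hsec.trans (by simp [LinearMap.toSpanSingleton_apply])⟩
  choose sec hsec using hmem
  obtain ⟨q, v, hv⟩ := Submodule.fg_iff_exists_fin_generating_family.1
    (IsNoetherian.noetherian (LinearMap.ker π))
  let φ : Matrix (Fin p) (Fin q) R := Matrix.of fun a j => v j a
  have hrange : LinearMap.range φ.mulVecLin = LinearMap.ker π := by
    rw [Matrix.range_mulVecLin, ← hv]
    rfl
  have hw : ∀ i a, ∃ u : Fin q → R,
      φ.mulVecLin u = g i ^ N • (Pi.single a 1 : Fin p → R) - sec i (π (Pi.single a 1)) := by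
    intro i a
    have : g i ^ N • (Pi.single a 1 : Fin p → R) - sec i (π (Pi.single a 1)) ∈
        LinearMap.range φ.mulVecLin := by
      rw [hrange, LinearMap.mem_ker, map_sub, map_smul]
      have := LinearMap.congr_fun (hsec i) (π (Pi.single a 1))
      simp only [LinearMap.comp_apply, LinearMap.smul_apply, LinearMap.id_apply] at this
      rw [this, sub_self]
    exact this
  choose u hu using hw
  let ψ : Fin s → Matrix (Fin q) (Fin p) R := fun i => Matrix.of fun j a => u i a j
  refine ⟨p, q, N, φ, ψ, fun i => ?_, ⟨(Submodule.quotEquivOfEq _ _ hrange).trans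
    (LinearMap.quotKerEquivOfSurjective π hπ)⟩⟩
  have hlin : φ.mulVecLin.comp (ψ i).mulVecLin = g i ^ N • LinearMap.id - (sec i).comp π := by
    refine (Pi.basisFun R (Fin p)).ext fun a => ?_
    rw [Pi.basisFun_apply]
    simp only [LinearMap.comp_apply, LinearMap.sub_apply, LinearMap.smul_apply, LinearMap.id_apply]
    rw [← hu i a]
    congr 1
    simp only [Matrix.mulVecLin_apply, Matrix.mulVec_single_one]
    rfl
  apply Matrix.toLin'.injective
  refine LinearMap.ext fun x => ?_
  have hker : π (φ *ᵥ x) = 0 := by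
    rw [← LinearMap.mem_ker, ← hrange]; exact ⟨x, rfl⟩
  have := LinearMap.congr_fun hlin (φ.mulVecLin x)
  simp only [LinearMap.comp_apply, LinearMap.sub_apply, LinearMap.smul_apply, LinearMap.id_apply,
    Matrix.mulVecLin_apply] at this
  simp only [hker, map_zero, sub_zero, Matrix.mulVec_mulVec] at this
  rw [map_smul, LinearMap.smul_apply, Matrix.toLin'_apply, Matrix.toLin'_apply, ← this]
  rw [Matrix.mul_assoc]

/-- A regular matrix presents a module that is free wherever some `fᵢ` is invertible. -/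
theorem free_coker {B : Type u} [CommRing B] {p q : ℕ} (φ : Matrix (Fin p) (Fin q) B)
    (ψ : Matrix (Fin q) (Fin p) B) {f : B} (h : φ * ψ * φ = f • φ) (P : Ideal B) [P.IsPrime]
    (hf : f ∉ P) :
    Module.Free (Localization.AtPrime P) (LocalizedModule P.primeCompl (Coker φ)) := by
  let D : (Fin p → B) →ₗ[B] (Fin p → B) := f • LinearMap.id - φ.mulVecLin.comp ψ.mulVecLin
  have hD : LinearMap.range φ.mulVecLin ≤ LinearMap.ker D := by
    rintro _ ⟨x, rfl⟩
    simp only [D, LinearMap.mem_ker, LinearMap.sub_apply, LinearMap.smul_apply, LinearMap.id_apply,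
      LinearMap.comp_apply, Matrix.mulVecLin_apply, Matrix.mulVec_mulVec]
    rw [← Matrix.mul_assoc, h, Matrix.smul_mulVec, sub_self]
  let i : Coker φ →ₗ[B] (Fin p → B) := Submodule.liftQ _ D hD
  have hi : (LinearMap.range φ.mulVecLin).mkQ.comp i = f • LinearMap.id := by
    refine Submodule.linearMap_qext _ (LinearMap.ext fun x => ?_)
    show (Submodule.Quotient.mk (D x) : Coker φ) = f • (Submodule.Quotient.mk x : Coker φ)
    rw [show D x = f • x - φ.mulVecLin (ψ.mulVecLin x) from rfl, Submodule.Quotient.mk_sub,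
      show (Submodule.Quotient.mk (φ.mulVecLin (ψ.mulVecLin x)) : Coker φ) = 0 from
        (Submodule.Quotient.mk_eq_zero _).2 (LinearMap.mem_range_self φ.mulVecLin _), sub_zero,
      Submodule.Quotient.mk_smul]
  let S := P.primeCompl
  haveI : Module.Free (Localization S) (LocalizedModule S (Fin p → B)) :=
    Module.free_of_isLocalizedModule (Rₛ := Localization S) S (LocalizedModule.mkLinearMap S (Fin p → B))
  let πS := LocalizedModule.map S (LinearMap.range φ.mulVecLin).mkQ
  let iS := LocalizedModule.map S i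
  obtain ⟨u, hu⟩ := IsLocalization.map_units (Localization S) (⟨f, hf⟩ : S)
  have hcomp : πS.comp ((↑u⁻¹ : Localization S) • iS) = LinearMap.id := by
    refine LinearMap.ext fun x => ?_
    induction x using LocalizedModule.induction_on with
    | h m t =>
      simp only [LinearMap.comp_apply, LinearMap.smul_apply, map_smul, πS, iS,
        LocalizedModule.map_mk, LinearMap.id_apply]
      rw [← LinearMap.comp_apply, hi, LinearMap.smul_apply, LinearMap.id_apply,
        ← LocalizedModule.smul'_mk, algebra_compatible_smul (Localization S) f, smul_smul,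
        ← show (↑u : Localization S) = algebraMap B (Localization S) f from hu, Units.inv_mul, one_smul]
  haveI : Module.Projective (Localization S) (LocalizedModule S (Coker φ)) :=
    Module.Projective.of_split _ _ hcomp
  haveI : Module.Finite (Localization S) (LocalizedModule S (Coker φ)) :=
    Module.Finite.of_isLocalizedModule S (LocalizedModule.mkLinearMap S (Coker φ))
  exact Module.free_of_flat_of_isLocalRing (R := Localization.AtPrime P)

/-- Base change of a cokernel. -/
theorem tensor_coker_equiv {B : Type u} [CommRing B] (A : Type u) [CommRing A] [Algebra B A]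
    {p q : ℕ} (φ : Matrix (Fin p) (Fin q) B) :
    Nonempty (A ⊗[B] Coker φ ≃ₗ[A] Coker (φ.map (algebraMap B A))) := by
  classical
  let ι : (Fin p → B) →ₗ[B] (Fin p → A) :=
    LinearMap.pi fun a => (Algebra.linearMap B A).comp (LinearMap.proj a)
  have hι : ∀ x : Fin q → B,
      ι (φ.mulVec x) = (φ.map (algebraMap B A)).mulVec (fun j => algebraMap B A (x j)) := fun x => by
    ext a
    exact RingHom.map_mulVec (algebraMap B A) φ x a
  let fwd0 : Coker φ →ₗ[B] Coker (φ.map (algebraMap B A)) :=
    Submodule.liftQ _ (((LinearMap.range (φ.map (algebraMap B A)).mulVecLin).mkQ.restrictScalars B).comp ι) (by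
      rintro _ ⟨x, rfl⟩
      rw [LinearMap.mem_ker, LinearMap.comp_apply]
      exact (Submodule.Quotient.mk_eq_zero _).2 ⟨fun j => algebraMap B A (x j), (hι x).symm⟩)
  let fwd : A ⊗[B] Coker φ →ₗ[A] Coker (φ.map (algebraMap B A)) := fwd0.liftBaseChange A
  let v : Fin p → A ⊗[B] Coker φ := fun a => 1 ⊗ₜ Submodule.Quotient.mk (Pi.single a 1)
  have hv : ∀ x : Fin p → B, Fintype.linearCombination A v (ι x) = 1 ⊗ₜ Submodule.Quotient.mk x := by
    intro x
    conv_rhs => rw [pi_eq_sum_univ' x]
    rw [← Submodule.mkQ_apply, map_sum, tmul_sum, Fintype.linearCombination_apply]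
    refine Finset.sum_congr rfl fun a _ => ?_
    rw [map_smul, tmul_smul]
    exact algebraMap_smul A (x a) (v a)
  let bwd : Coker (φ.map (algebraMap B A)) →ₗ[A] A ⊗[B] Coker φ :=
    Submodule.liftQ _ (Fintype.linearCombination A v) (by
      rw [Matrix.range_mulVecLin, Submodule.span_le]
      rintro _ ⟨j, rfl⟩
      rw [SetLike.mem_coe, LinearMap.mem_ker]
      have : (φ.map (algebraMap B A)).col j = ι (φ.mulVec (Pi.single j 1)) := by
        ext a; simp [ι, Matrix.mulVec_single_one]
      rw [this, hv, show (Submodule.Quotient.mk (φ.mulVec (Pi.single j 1)) : Coker φ) = 0 from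
        (Submodule.Quotient.mk_eq_zero _).2 (LinearMap.mem_range_self φ.mulVecLin _), tmul_zero])
  refine ⟨LinearEquiv.ofLinear fwd bwd ?_ ?_⟩
  · refine Submodule.linearMap_qext _ ((Pi.basisFun A (Fin p)).ext fun a => ?_)
    rw [Pi.basisFun_apply]
    simp only [LinearMap.comp_apply, Submodule.mkQ_apply, LinearMap.id_apply, bwd, Submodule.liftQ_apply,
      Fintype.linearCombination_apply_single, one_smul, v, fwd, LinearMap.liftBaseChange_tmul, fwd0,
      LinearMap.coe_restrictScalars]
    congr 1
    ext b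
    by_cases hb : b = a
    · subst hb; simp [ι]
    · simp [ι, hb]
  · refine AlgebraTensorModule.curry_injective (LinearMap.ext_ring (LinearMap.ext fun m => ?_))
    obtain ⟨x, rfl⟩ := Submodule.Quotient.mk_surjective _ m
    simp only [AlgebraTensorModule.curry_apply, curry_apply, LinearMap.coe_restrictScalars,
      LinearMap.comp_apply, LinearMap.id_apply, fwd, LinearMap.liftBaseChange_tmul, one_smul, fwd0,
      Submodule.liftQ_apply, bwd, Submodule.mkQ_apply]
    exact hv x

theorem coker_equiv_of_eq_mul {R : Type u} [CommRing R] {p q : ℕ} {φ φ' : Matrix (Fin p) (Fin q) R}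
    {U : Matrix (Fin p) (Fin p) R} {V : Matrix (Fin q) (Fin q) R} (hU : IsUnit U) (hV : IsUnit V)
    (h : φ = U * φ' * V) : Nonempty (Coker φ' ≃ₗ[R] Coker φ) := by
  obtain ⟨U, rfl⟩ := hU
  obtain ⟨V, rfl⟩ := hV
  let e : (Fin p → R) ≃ₗ[R] (Fin p → R) :=
    LinearEquiv.ofLinear (U : Matrix (Fin p) (Fin p) R).mulVecLin
      (↑U⁻¹ : Matrix (Fin p) (Fin p) R).mulVecLin
      (by rw [← Matrix.mulVecLin_mul, U.mul_inv, Matrix.mulVecLin_one])
      (by rw [← Matrix.mulVecLin_mul, U.inv_mul, Matrix.mulVecLin_one])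
  refine ⟨Submodule.Quotient.equiv _ _ e ?_⟩
  rw [h]
  refine le_antisymm ?_ ?_
  · rintro _ ⟨_, ⟨x, rfl⟩, rfl⟩
    refine ⟨(↑V⁻¹ : Matrix (Fin q) (Fin q) R).mulVec x, ?_⟩
    show ((U : Matrix (Fin p) (Fin p) R) * φ' * (V : Matrix (Fin q) (Fin q) R)) *ᵥ _ =
      (U : Matrix (Fin p) (Fin p) R) *ᵥ (φ' *ᵥ x)
    rw [Matrix.mulVec_mulVec, Matrix.mulVec_mulVec, Matrix.mul_assoc (_ * φ'), V.mul_inv, Matrix.mul_one]
  · rintro _ ⟨x, rfl⟩
    refine ⟨φ' *ᵥ ((V : Matrix (Fin q) (Fin q) R) *ᵥ x), ⟨_, rfl⟩, ?_⟩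
    show (U : Matrix (Fin p) (Fin p) R) *ᵥ _ =
      ((U : Matrix (Fin p) (Fin p) R) * φ' * (V : Matrix (Fin q) (Fin q) R)) *ᵥ x
    rw [Matrix.mulVec_mulVec, Matrix.mulVec_mulVec]

theorem ker_evalₐ {T : Type u} [CommRing T] (J : Ideal T) (hJ : J.FG) (n : ℕ) :
    RingHom.ker (AdicCompletion.evalₐ J n) = (J.map (algebraMap T (AdicCompletion J T))) ^ n := by
  rw [← Ideal.map_pow]
  ext x
  have hle : J ^ n • (⊤ : Submodule T T) ≤ J ^ n := by simp
  rw [RingHom.mem_ker, ← AdicCompletion.factor_eval_eq_evalₐ J x hle]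
  have hinj : Function.Injective (Submodule.factor hle) := by
    rw [← LinearMap.ker_eq_bot, Submodule.factor, Submodule.ker_mapQ, Submodule.comap_id]
    refine (Submodule.map_mono (show J ^ n ≤ J ^ n • (⊤ : Submodule T T) by simp)).trans_eq
      (Submodule.mkQ_map_self _) |> le_bot_iff.mp
  rw [map_eq_zero_iff _ hinj, ← LinearMap.mem_ker, ← AdicCompletion.pow_smul_top_eq_ker_eval hJ,
    Ideal.smul_top_eq_map]
  rfl

theorem eval_compat {A : Type u} [CommRing A] (I : Ideal A) {n L : ℕ} (h : n ≤ L)
    (x : AdicCompletion I A) (r : A) (hr : Ideal.Quotient.mk (I ^ L) r = AdicCompletion.evalₐ I L x) :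
    Ideal.Quotient.mk (I ^ n) r = AdicCompletion.evalₐ I n x := by
  induction x using AdicCompletion.induction_on with
  | h a =>
    rw [AdicCompletion.evalₐ_mk] at hr ⊢
    have h1 : r - a L ∈ I ^ n := Ideal.pow_le_pow_right h (Ideal.Quotient.eq.mp hr)
    have h2 : a n - a L ∈ I ^ n := by simpa using SModEq.sub_mem.mp (a.property h)
    rw [Ideal.Quotient.eq]
    simpa using sub_mem h1 h2

/-- An ideal containing a finitely generated `I` is finitely generated if its extension to the completion is. -/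
theorem fg_of_fg_map_completion {B : Type u} [CommRing B] {I J : Ideal B} (hI : I.FG) (hJ : I ≤ J)
    (h : (J.map (algebraMap B (AdicCompletion I B))).FG) : J.FG := by
  have h1 : (J.map (Ideal.Quotient.mk (I ^ 1))).FG := by
    have h2 := h.map (AdicCompletion.evalₐ I 1).toRingHom
    rwa [Ideal.map_map, AlgHom.toRingHom_eq_coe, AlgHom.comp_algebraMap, Ideal.Quotient.algebraMap_eq] at h2
  obtain ⟨s, hs, hsJ⟩ : ∃ s : Ideal B, s.FG ∧ s.map (Ideal.Quotient.mk (I ^ 1)) = J.map (Ideal.Quotient.mk (I ^ 1)) ∧ s ≤ J := by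
    obtain ⟨t, ht⟩ := h1
    classical
    choose l hl hlt using fun x : t => (Ideal.mem_map_iff_of_surjective _ Ideal.Quotient.mk_surjective).1
      (show (x : B ⧸ I ^ 1) ∈ J.map (Ideal.Quotient.mk (I ^ 1)) from ht ▸ Ideal.subset_span x.2)
    refine ⟨Ideal.span (Set.range l), Submodule.fg_span (Set.finite_range l), ?_, ?_⟩
    · rw [Ideal.map_span, ← ht, ← Set.range_comp]
      congr 1
      ext y
      exact ⟨by rintro ⟨x, rfl⟩; rw [Function.comp_apply, hlt]; exact x.2, fun hy => ⟨⟨y, hy⟩, hlt _⟩⟩
    · rw [Ideal.span_le]; rintro _ ⟨x, rfl⟩; exact hl x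
  have : J = s ⊔ I := by
    refine le_antisymm (fun x hx => ?_) (sup_le hsJ.2 hJ)
    have := Ideal.mem_map_of_mem (Ideal.Quotient.mk (I ^ 1)) hx
    rw [← hsJ.1, Ideal.mem_quotient_iff_mem_sup, pow_one] at this
    exact this
  rw [this]
  exact Submodule.FG.sup hs hI

/-- Elkik's theorem. -/
theorem exists_algebraisation
    (B₀ B : Type u) [CommRing B₀] [CommRing B] [IsNoetherianRing B₀] [Algebra B₀ B] [Module.Flat B₀ B]
    (I₀ : Ideal B₀) (I : Ideal B) (hI : I = Ideal.map (algebraMap B₀ B) I₀) [HenselianRing B I]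
    [IsNoetherianRing (AdicCompletion I B)]
    (J : Ideal B) (hJ : I ≤ J)
    (Mbar : Type u) [AddCommGroup Mbar] [Module (AdicCompletion I B) Mbar]
    [Module.Finite (AdicCompletion I B) Mbar]
    (hMbar : ∀ (p : Ideal (AdicCompletion I B)) [p.IsPrime],
      ¬ Ideal.map (algebraMap B (AdicCompletion I B)) J ≤ p →
        Module.Free (Localization.AtPrime p) (LocalizedModule p.primeCompl Mbar)) :
    ∃ (M : Type u) (_ : AddCommGroup M) (_ : Module B M), Module.Finite B M ∧
      Module.FinitePresentation B M ∧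
      (∀ (q : Ideal B) [q.IsPrime], ¬ J ≤ q →
        Module.Free (Localization.AtPrime q) (LocalizedModule q.primeCompl M)) ∧
      Nonempty (AdicCompletion I B ⊗[B] M ≃ₗ[AdicCompletion I B] Mbar) := by
  classical
  let A := AdicCompletion I B
  let of := algebraMap B A
  have hIfg : I.FG := hI ▸ Ideal.FG.map (IsNoetherian.noetherian I₀) _
  have hJfg : J.FG := fg_of_fg_map_completion hIfg hJ (IsNoetherian.noetherian _)
  obtain ⟨s, g, hg⟩ := Submodule.fg_iff_exists_fin_generating_family.1 hJfg
  rw [Ideal.submodule_span_eq] at hg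
  have hgJ : ∀ i, g i ∈ J := fun i => hg ▸ Ideal.subset_span ⟨i, rfl⟩
  obtain ⟨p, q, N, φb, ψb, hreg, ⟨eM⟩⟩ := exists_regular_presentation Mbar (J.map of) hMbar
    (fun i => of (g i)) (fun i => Ideal.mem_map_of_mem of (hgJ i))
  let f : Fin s → B := fun i => g i ^ N
  have hrad : J ≤ (Ideal.span (Set.range f)).radical := by
    rw [← hg, Ideal.span_le]
    rintro _ ⟨i, rfl⟩
    exact ⟨N, Ideal.subset_span ⟨i, rfl⟩⟩
  let Ib := I.map of
  haveI : IsAdicComplete Ib A := AdicCompletion.isAdicComplete_self I hIfg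
  have hIb : Ib ≤ (Ideal.span (Set.range fun i => of (f i))).radical := by
    refine (Ideal.map_mono (hJ.trans hrad)).trans ((Ideal.map_radical_le of).trans ?_)
    refine Ideal.radical_mono ?_
    rw [Ideal.map_span, ← Set.range_comp]
    rfl
  obtain ⟨h, hh⟩ := Ideal.exists_pow_le_of_le_radical_of_fg hIb (IsNoetherian.noetherian _)
  obtain ⟨n₀, hn₀⟩ := exists_equiv_of_close Ib (fun i => of (f i)) h hh φb
  obtain ⟨L, hnL, hL⟩ := exists_approx B₀ B I₀ I hI (EqAlg p q f)
    (fun t ht => liftsAway_eqAlg p q f (hrad (hJ ht))) n₀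
  obtain ⟨σ, hσφ, -⟩ := exists_hom (B := B) (f := f) (R := A) φb ψb fun i => by
    rw [hreg i]; simp [f, of, map_pow]
  obtain ⟨τ, hτ⟩ := hL ((AdicCompletion.evalₐ I L).comp σ)
  let φ := (phiC p q f).map τ
  have hφ : ∀ i, φ * (psiC p q f i).map τ * φ = f i • φ := fun i => by
    simpa using map_rel τ i
  have hclose : EntryMem (Ib ^ n₀) (φ.map of - φb) := by
    intro a b
    rw [← ker_evalₐ I hIfg, RingHom.mem_ker, Matrix.sub_apply, map_sub, sub_eq_zero]
    obtain ⟨r, hr⟩ := Ideal.Quotient.mk_surjective (AdicCompletion.evalₐ I L (σ (phiC p q f a b)))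
    have h1 := hτ (phiC p q f a b) r hr
    have h2 := eval_compat I hnL _ r hr
    have h3 : σ (phiC p q f a b) = φb a b := by rw [← hσφ]; rfl
    rw [← h3, ← h2]
    show AdicCompletion.evalₐ I n₀ (algebraMap B A (τ (phiC p q f a b))) = _
    rw [AlgHom.commutes, Ideal.Quotient.algebraMap_eq, Ideal.Quotient.eq]
    exact h1
  obtain ⟨U, V, hU, hV, hUV⟩ := hn₀ (φ.map of) (fun i => ⟨((psiC p q f i).map τ).map of, by
    rw [← Matrix.map_mul, ← Matrix.map_mul, hφ i]
    ext a b; simp⟩) hclose
  obtain ⟨e1⟩ := tensor_coker_equiv A φ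
  obtain ⟨e2⟩ := coker_equiv_of_eq_mul hU hV hUV
  refine ⟨Coker φ, inferInstance, inferInstance, inferInstance, ?_, fun P _ hP => ?_,
    ⟨e1.trans (e2.trans eM)⟩⟩
  · exact Module.finitePresentation_of_surjective (LinearMap.range φ.mulVecLin).mkQ
      (Submodule.mkQ_surjective _) (by rw [Submodule.ker_mkQ, LinearMap.range_eq_map]; exact Module.Finite.fg_top.map _)
  · obtain ⟨i, hi⟩ : ∃ i, f i ∉ P := by
      by_contra hc
      push_neg at hc
      refine hP (hrad.trans ?_)
      rw [Ideal.IsPrime.radical_le_iff inferInstance, Ideal.span_le]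
      rintro _ ⟨i, rfl⟩
      exact hc i
    exact free_coker φ _ (hφ i) P hi

end Groth.Agent.ParaFormal.Elkik
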